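import Cfsg.Agent.M23Rec.Iso
import Cfsg.Agent.FiTypes.Three
import Cfsg.Agent.FiTwenty.SylTwoMain
import Cfsg.Agent.ThreeTransposition.M23Count.Involutions

/-!
Facts in the model of type M(23): commuting lists of up to four members are conjugate, the involutions of the
centraliser of a member, elementary abelian subgroups of order 2^11, and the automorphism of the centraliser exchanging
the two classes of lifts of transpositions.
-/

set_option autoImplicit false
set_option linter.unusedSectionVars false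
set_option linter.style.haveILetI false
set_option maxRecDepth 20000

namespace Cfsg.Lib.M23Rec

open Cfsg Subgroup Cfsg.Lib.ThreeTr
open Cfsg.Lib.CosetCert
open scoped Pointwise

attribute [local irreducible] FiTwenty.sig0 FiTwenty.sig1 FiTwenty.sig2 FiTwenty.sig3 FiTwenty.sig4 FiTwenty.sig5
  FiTwenty.sig6 FiTwenty.sig7 FiTwenty.sig8 FiTwenty.sig9 FiTwenty.sig10 FiTwenty.subPts FiTwenty.subIdx
  FiTwenty.subTree1Mask FiTwenty.subTree2Mask

/-- The presented group on ten letters. -/
abbrev Fj : Type := Cfsg.Spor.Fi23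

/-- The distinguished member. -/
noncomputable abbrev zz : Fj := FiTwenty.imZ 10

/-- The class. -/
abbrev D0 : Set Fj := FiTwenty.transp

/-- The members commuting with the distinguished one. -/
abbrev P0 : Set Fj := perp D0 zz

theorem finite_fj : Finite Fj := Nat.finite_of_card_ne_zero (by rw [FiTwenty.faithful_all.1]; norm_num)

theorem h23 : M23 D0 :=
  haveI := finite_fj
  M23.mk' FiTypes.three_group FiTypes.three_primitive FiTypes.three_type

theorem zz_mem : zz ∈ D0 := IsConj.refl _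

theorem zz_sq : zz * zz = 1 := FiTwenty.z_sq

theorem card_P0 : P0.ncard = 3510 := by
  haveI := finite_fj
  exact h23.solid.full.level.deg zz zz_mem

theorem mem_H {g : Fj} : g ∈ H23 ↔ Commute g zz := by
  rw [show H23 = lgp FiTwenty.imZ FiTwenty.lamH from rfl, ← FiTwenty.centralizer_z, mem_centralizer_singleton_iff]
  exact Iff.rfl

theorem closure_P0 : closure P0 = H23 := FiTypes.closure_perp_three

theorem P0_le {x : Fj} (hx : x ∈ P0) : x ∈ H23 := mem_H.2 hx.2.2.symm

theorem P0_conj {g : Fj} (hg : g ∈ H23) {x : Fj} (hx : x ∈ P0) : g * x * g⁻¹ ∈ P0 := by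
  haveI := finite_fj
  refine ⟨ThreeTr.conj_mem h23.cls g hx.1, fun e => hx.2.1 ?_, ?_⟩
  · rw [show x = g⁻¹ * (g * x * g⁻¹) * g by group, e, mul_assoc, ← (mem_H.1 hg).eq, inv_mul_cancel_left]
  · have h := hx.2.2.map (MulAut.conj g)
    rwa [MulAut.conj_apply, (mem_H.1 hg).eq, mul_inv_cancel_right] at h

/-- Commuting lists of up to four members are conjugate. -/
theorem listTrans4 : ListTrans D0 4 := by
  haveI := finite_fj
  obtain ⟨d, hd, hQ⟩ := h23.descended
  refine ListTrans.succ h23.cls h23.twin hd ?_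
  intro l l' hl hl' hlen h3
  rcases Nat.lt_or_ge l.length 3 with h | h
  · exact hQ.listTrans l l' hl hl' hlen (by omega)
  · obtain ⟨a, b, c, rfl⟩ := List.length_eq_three.1 (show l.length = 3 by omega)
    obtain ⟨a', b', c', rfl⟩ := List.length_eq_three.1 (show l'.length = 3 by simpa using hlen.symm)
    obtain ⟨g, rfl, rfl, rfl⟩ := hQ.triple_transitive (hl.mem a (by simp)) (hl.of_cons.2 b (by simp))
      (hl.of_cons.2 c (by simp)) (hl.of_cons.1.of_cons.2 c (by simp)) (hl'.mem a' (by simp))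
      (hl'.of_cons.2 b' (by simp)) (hl'.of_cons.2 c' (by simp)) (hl'.of_cons.1.of_cons.2 c' (by simp))
    exact ⟨g, rfl⟩

/-- The centraliser is transitive on commuting lists of up to three of its members. -/
theorem perp_lists {l l' : List Fj} (hl : CList D0 l) (hl' : CList D0 l') (hm : ∀ x ∈ l, x ∈ P0)
    (hm' : ∀ x ∈ l', x ∈ P0) (hlen : l.length = l'.length) (h3 : l.length ≤ 3) :
    ∃ g ∈ H23, l' = l.map fun a => g * a * g⁻¹ := by
  haveI := finite_fj
  obtain ⟨g, hg⟩ := listTrans4 (zz :: l) (zz :: l') (hl.cons zz_mem hm) (hl'.cons zz_mem hm')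
    (by simp [hlen]) (by simp; omega)
  rw [List.map_cons, List.cons.injEq] at hg
  exact ⟨g, mem_H.2 (mul_inv_eq_iff_eq_mul.1 hg.1.symm), hg.2⟩

/-- The involutions of the centraliser. -/
theorem invol_form {g : Fj} (hg : g ∈ H23) (h2 : g * g = 1) (h1 : g ≠ 1) (hz : g ≠ zz) :
    ∃ l : List Fj, CList D0 l ∧ (∀ x ∈ l, x ∈ P0) ∧ 1 ≤ l.length ∧ l.length ≤ 3 ∧
      (g = l.prod ∨ g = zz * l.prod) := by
  haveI := finite_fj
  haveI := FiPres.finite_fi
  obtain ⟨i, hi⟩ := FiTypes.three_desc
  have hgK : g ∈ closure P0 := by rw [closure_P0]; exact hg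
  set q := QuotientGroup.mk' (center ↥(closure P0))
  have hker : ∀ x : ↥(closure P0), x ∈ center ↥(closure P0) → (x : Fj) = 1 ∨ (x : Fj) = zz := fun x hx =>
    h23.solid.full.eq_one_or_self zz_mem (closure_perp_commute x.2).symm fun e he =>
      congrArg Subtype.val (mem_center_iff.1 hx ⟨e, subset_closure he⟩)
  have hne : q ⟨g, hgK⟩ ≠ 1 := fun e => by
    rcases hker _ ((QuotientGroup.eq_one_iff _).1 e) with e | e
    exacts [h1 e, hz e]
  have h2M : M22 FiPres.transp := M22.mk' FiTypes.two_three_group FiTypes.two_primitive FiTypes.two_type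
  obtain ⟨s, hs, hs1, hs3, hsp⟩ := h2M.invForm (i (q ⟨g, hgK⟩)) (orderOf_eq_prime (p := 2) (by
    rw [← map_pow, ← map_pow, show (⟨g, hgK⟩ : ↥(closure P0)) ^ 2 = 1 from Subtype.ext (by simpa [sq] using h2), map_one,
      map_one]) fun e => hne (i.injective (by rw [e, map_one])))
  set s' := s.map i.symm with hs'
  have hmem : ∀ y ∈ s', y ∈ descSet D0 zz := by
    intro y hy
    obtain ⟨t, ht, rfl⟩ := List.mem_map.1 hy
    have : t ∈ i '' descSet D0 zz := by
      have := hs.mem t ht
      rw [← hi] at this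
      exact this
    obtain ⟨u, hu, rfl⟩ := this
    rwa [MulEquiv.symm_apply_apply]
  obtain ⟨ls, hm, hls, hπ⟩ := clist_lift h23.cls h23.twin zz_mem (s := s') ⟨hs.nodup.map i.symm.injective, hmem,
    fun a ha b hb => by
      obtain ⟨a', ha', rfl⟩ := List.mem_map.1 ha
      obtain ⟨b', hb', rfl⟩ := List.mem_map.1 hb
      exact (hs.comm a' ha' b' hb').map i.symm⟩
  have hlen : ls.length = s.length := by
    have := congrArg List.length hπ
    simpa [hs'] using this
  refine ⟨ls.map Subtype.val, hls, fun x hx => ?_, by simpa [hlen], by simpa [hlen], ?_⟩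
  · obtain ⟨v, hv, rfl⟩ := List.mem_map.1 hx
    exact hm v hv
  have hprod : q ls.prod = q ⟨g, hgK⟩ := by
    rw [map_list_prod]
    show (ls.map q).prod = _
    rw [hπ, hs', ← map_list_prod, hsp, MulEquiv.symm_apply_apply]
  rcases hker (ls.prod⁻¹ * ⟨g, hgK⟩) ((QuotientGroup.eq_one_iff _).1 (by
    show q _ = 1
    rw [map_mul, map_inv, hprod, inv_mul_cancel])) with e | e <;>
    rw [coe_mul, coe_inv, SubmonoidClass.coe_list_prod, inv_mul_eq_iff_eq_mul] at e
  · exact Or.inl (e.trans (mul_one _))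
  · refine Or.inr (e.trans ?_)
    exact (Commute.list_prod_right _ _ fun x hx => by
      obtain ⟨v, hv, rfl⟩ := List.mem_map.1 hx
      exact (hm v hv).2.2).eq.symm

/-- A 2-subgroup has at most one elementary abelian subgroup of order 2^11. -/
theorem elem_unique {S A B : Subgroup Fj} (hS : IsPGroup 2 S) (hA : A ≤ S) (hB : B ≤ S)
    (eA : IsElementaryAbelian 2 A) (eB : IsElementaryAbelian 2 B) (cA : Nat.card A = 2 ^ 11)
    (cB : Nat.card B = 2 ^ 11) : A = B := by
  haveI := finite_fj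
  haveI : Fact (Nat.Prime 2) := ⟨Nat.prime_two⟩
  obtain ⟨P, hP⟩ := hS.exists_le_sylow
  obtain ⟨g, hg⟩ := MulAction.exists_smul_eq Fj FiTwenty.SylTwo.T0 P
  set e : Fj ≃* Fj := MulAut.conj g
  have hPT : (P : Subgroup Fj) = (FiTwenty.SylTwo.T 7).map e.toMonoidHom := by rw [← hg]; rfl
  have back : ∀ X : Subgroup Fj, X ≤ S → IsElementaryAbelian 2 X → Nat.card X = 2 ^ 11 →
      X.map e.symm.toMonoidHom = FiTwenty.SylTwo.V := fun X hX he hc => by
    refine (FiTwenty.SylTwo.base_bound (fun x hx => ?_) (FiTwenty.SylTwo.conj_elem e.symm he)).2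
      (by rw [card_map_of_injective e.symm.injective, hc])
    obtain ⟨a, ha, rfl⟩ := hx
    have := hP (hX ha)
    rw [hPT] at this
    obtain ⟨b, hb, rfl⟩ := this
    simpa using hb
  exact map_injective e.symm.injective ((back A hA eA cA).trans (back B hB eB cB).symm)

/-- Two such subgroups of a subgroup are conjugate in it. -/
theorem elem_conj {K A B : Subgroup Fj} (hA : A ≤ K) (hB : B ≤ K) (eA : IsElementaryAbelian 2 A)
    (eB : IsElementaryAbelian 2 B) (cA : Nat.card A = 2 ^ 11) (cB : Nat.card B = 2 ^ 11) :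
    ∃ k ∈ K, A.map (MulAut.conj k).toMonoidHom = B := by
  haveI := finite_fj
  haveI : Fact (Nat.Prime 2) := ⟨Nat.prime_two⟩
  have hp : ∀ {X : Subgroup Fj}, X ≤ K → IsElementaryAbelian 2 X → IsPGroup 2 (X.subgroupOf K) := fun hX he x =>
    ⟨1, Subtype.ext (Subtype.ext (by simpa using he.2 (x.1.1) x.2))⟩
  obtain ⟨P, hP⟩ := (hp hA eA).exists_le_sylow
  obtain ⟨Q, hQ⟩ := (hp hB eB).exists_le_sylow
  obtain ⟨k, hk⟩ := MulAction.exists_smul_eq ↥K P Q
  refine ⟨k, k.2, elem_unique (S := (Q : Subgroup ↥K).map K.subtype) (Q.2.map _) ?_ ?_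
    (FiTwenty.SylTwo.conj_elem (MulAut.conj (k : Fj)) eA) eB
    (by rw [card_map_of_injective (MulAut.conj (k : Fj)).injective, cA]) cB⟩
  · rintro _ ⟨a, ha, rfl⟩
    refine ⟨k * ⟨a, hA ha⟩ * k⁻¹, ?_, rfl⟩
    rw [← hk]
    exact Subgroup.smul_mem_pointwise_smul _ (MulAut.conj k) _ (hP (mem_subgroupOf.2 ha))
  · exact fun b hb => ⟨⟨b, hB hb⟩, hQ (mem_subgroupOf.2 hb), rfl⟩

end Cfsg.Lib.M23Rec
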