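import Cfsg.Agent.FiSixfold.Multiplier
import Cfsg.Agent.Components.Quasisimple

/-!
A quasisimple double cover of the presented Fischer group on nine letters is the centraliser of a transposition in the
presented group on ten letters.
-/

set_option autoImplicit false
set_option linter.unusedSectionVars false
set_option linter.style.haveILetI false
set_option maxRecDepth 20000

namespace Cfsg.Lib.M23Rec

open Subgroup
open Cfsg.Lib.CosetCert
open scoped commutatorElement

universe u

/-- The centraliser of the transposition, as generated by its letters. -/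
abbrev H23 : Subgroup Cfsg.Spor.Fi23 := lgp FiTwenty.imZ FiTwenty.lamH

/-- A perfect central extension with kernel at most two is carried onto another one. -/
theorem double_iso {C : Type u} [Group C] [Finite C] (σ : C →* Cfsg.Spor.Fi22) (hs : Function.Surjective σ)
    (hk : σ.ker ≤ center C) (hp : commutator C = ⊤) (h2 : Nat.card σ.ker = 2) :
    ∃ e : C ≃* H23, ∀ x, FiTwenty.down (e x) = σ x := by
  haveI := FiPres.finite_fi
  haveI : Finite H23 := FiTwenty.bound_h.1
  set τ : H23 →* Cfsg.Spor.Fi22 := FiTwenty.down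
  have hτs : Function.Surjective τ := FiTwenty.down_surjective
  have hτk : τ.ker ≤ center H23 := FiTwenty.center_eq.ge
  have hτp : commutator H23 = ⊤ := FiSixfold.double_perfect
  have hτ2 : Nat.card τ.ker = 2 := FiTwenty.card_ker
  let P : Subgroup (C × H23) := (σ.comp (MonoidHom.fst C H23)).eqLocus (τ.comp (MonoidHom.snd C H23))
  have hmem : ∀ p, p ∈ P ↔ σ p.1 = τ p.2 := fun p => Iff.rfl
  let π₁ : ↥(commutator ↥P) →* C := ((MonoidHom.fst C H23).comp P.subtype).comp (commutator ↥P).subtype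
  let π₂ : ↥(commutator ↥P) →* H23 := ((MonoidHom.snd C H23).comp P.subtype).comp (commutator ↥P).subtype
  have hP₁ : Function.Surjective ((MonoidHom.fst C H23).comp P.subtype) := fun c => by
    obtain ⟨h, hh⟩ := hτs (σ c)
    exact ⟨⟨(c, h), hh.symm⟩, rfl⟩
  have hP₂ : Function.Surjective ((MonoidHom.snd C H23).comp P.subtype) := fun h => by
    obtain ⟨c, hc⟩ := hs (τ h)
    exact ⟨⟨(c, h), hc⟩, rfl⟩
  have h₁ : Function.Surjective π₁ := fun c => by
    have : c ∈ (commutator ↥P).map ((MonoidHom.fst C H23).comp P.subtype) := by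
      rw [_root_.commutator_def, map_commutator, map_top_of_surjective _ hP₁, ← _root_.commutator_def, hp]
      exact mem_top c
    obtain ⟨x, hx, rfl⟩ := this
    exact ⟨⟨x, hx⟩, rfl⟩
  have h₂ : Function.Surjective π₂ := fun h => by
    have : h ∈ (commutator ↥P).map ((MonoidHom.snd C H23).comp P.subtype) := by
      rw [_root_.commutator_def, map_commutator, map_top_of_surjective _ hP₂, ← _root_.commutator_def, hτp]
      exact mem_top h
    obtain ⟨x, hx, rfl⟩ := this
    exact ⟨⟨x, hx⟩, rfl⟩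
  -- the commutator subgroup is a stem extension
  let ρ : ↥(commutator ↥P) →* Cfsg.Spor.Fi22 := σ.comp π₁
  have hρs : Function.Surjective ρ := hs.comp h₁
  have hcen : ∀ x : ↥P, σ x.1.1 = 1 → x ∈ center ↥P := fun x hx => mem_center_iff.2 fun y => Subtype.ext (Prod.ext
    (mem_center_iff.1 (hk hx) y.1.1) (mem_center_iff.1 (hτk (show τ x.1.2 = 1 by rw [← (hmem _).1 x.2, hx])) y.1.2))
  have hperf : commutator ↥(commutator ↥P) = ⊤ := by
    refine map_injective (commutator ↥P).subtype_injective ?_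
    rw [_root_.commutator_def ↥(commutator ↥P), map_commutator, ← MonoidHom.range_eq_map, range_subtype]
    refine le_antisymm (commutator_mono le_top le_top |>.trans (le_of_eq (_root_.commutator_def _).symm)) ?_
    rw [_root_.commutator_def, commutator_le]
    intro a _ b _
    have dec : ∀ a : ↥P, ∃ a' ∈ commutator ↥P, ∃ k ∈ center ↥P, a = a' * k := fun a => by
      obtain ⟨a', ha'⟩ := h₁ a.1.1
      refine ⟨a'.1, a'.2, a'.1⁻¹ * a, hcen _ ?_, by group⟩
      show σ ((a'.1.1.1)⁻¹ * a.1.1) = 1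
      rw [show a'.1.1.1 = a.1.1 from ha', inv_mul_cancel, map_one]
    obtain ⟨a', ha', k, hk', rfl⟩ := dec a
    obtain ⟨b', hb', l, hl', rfl⟩ := dec b
    have : ⁅a' * k, b' * l⁆ = ⁅a', b'⁆ := by
      have c1 : ∀ w : ↥P, Commute k w := fun w => (mem_center_iff.1 hk' w).symm
      have c2 : ∀ w : ↥P, Commute l w := fun w => (mem_center_iff.1 hl' w).symm
      rw [commutatorElement_def, commutatorElement_def, mul_inv_rev, mul_inv_rev]
      calc a' * k * (b' * l) * (k⁻¹ * a'⁻¹) * (l⁻¹ * b'⁻¹)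
          = a' * (k * (b' * l)) * k⁻¹ * a'⁻¹ * l⁻¹ * b'⁻¹ := by group
        _ = a' * b' * l * a'⁻¹ * l⁻¹ * b'⁻¹ := by rw [(c1 _).eq]; group
        _ = a' * b' * (l * a'⁻¹) * l⁻¹ * b'⁻¹ := by group
        _ = a' * b' * a'⁻¹ * b'⁻¹ := by rw [(c2 _).eq]; group
    rw [this]
    exact commutator_mem_commutator ha' hb'
  have hstem : Cfsg.IsStemExtension ρ := ⟨hρs, fun x hx => mem_center_iff.2 fun y => Subtype.ext
    (mem_center_iff.1 (hcen x.1 hx) y.1), hperf ▸ le_top⟩
  obtain ⟨hcyc, -⟩ := FiSixfold.stem_ker hstem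
  have hexp : ∀ x : ρ.ker, x ^ 2 = 1 := fun x => by
    have hx1 : σ x.1.1.1.1 = 1 := x.2
    have hx2 : τ x.1.1.1.2 = 1 := by rw [← (hmem _).1 x.1.1.2, hx1]
    have e1 : x.1.1.1.1 ^ 2 = 1 := by
      have := congrArg Subtype.val (pow_card_eq_one' (x := (⟨_, hx1⟩ : σ.ker)))
      rwa [h2, SubmonoidClass.coe_pow] at this
    have e2 : x.1.1.1.2 ^ 2 = 1 := by
      have := congrArg Subtype.val (pow_card_eq_one' (x := (⟨_, hx2⟩ : τ.ker)))
      rwa [hτ2, SubmonoidClass.coe_pow] at this
    refine Subtype.ext (Subtype.ext (Subtype.ext (Prod.ext ?_ ?_)))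
    · simpa using e1
    · simpa using e2
  have hle : Nat.card ρ.ker ≤ 2 := by
    rw [← IsCyclic.exponent_eq_card]
    exact Nat.le_of_dvd (by norm_num) (Monoid.exponent_dvd_of_forall_pow_eq_one hexp)
  have hcard : ∀ {X : Type u} [Group X] (f : X →* Cfsg.Spor.Fi22), Function.Surjective f →
      Nat.card X = Nat.card f.ker * Nat.card Cfsg.Spor.Fi22 := fun f hf => by
    rw [← card_mul_index f.ker, index_ker, MonoidHom.range_eq_top.2 hf, card_top]
  have hΔ : Nat.card ↥(commutator ↥P) ≤ 2 * Nat.card Cfsg.Spor.Fi22 := by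
    rw [hcard ρ hρs]
    exact Nat.mul_le_mul_right _ hle
  have b₁ : Function.Bijective π₁ := h₁.bijective_of_nat_card_le (by rw [hcard σ hs, h2]; exact hΔ)
  have b₂ : Function.Bijective π₂ := h₂.bijective_of_nat_card_le (by rw [← card_mul_index τ.ker, index_ker, MonoidHom.range_eq_top.2 hτs, card_top, hτ2]; exact hΔ)
  refine ⟨(MulEquiv.ofBijective π₁ b₁).symm.trans (MulEquiv.ofBijective π₂ b₂), fun x => ?_⟩
  obtain ⟨y, rfl⟩ := h₁ x
  show τ (π₂ ((MulEquiv.ofBijective π₁ b₁).symm (MulEquiv.ofBijective π₁ b₁ y))) = σ (π₁ y)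
  rw [MulEquiv.symm_apply_apply]
  exact ((hmem _).1 y.1.2).symm

/-- The centraliser with quotient the smaller group, as the model. -/
theorem centraliser_iso {G : Type u} [Group G] [Finite G] (d : G) (hd : orderOf d = 2)
    (hq : Cfsg.IsQuasisimple ↥(centralizer ({d} : Set G)))
    [hn : ((zpowers d).subgroupOf (centralizer ({d} : Set G))).Normal]
    (i : ↥(centralizer ({d} : Set G)) ⧸ (zpowers d).subgroupOf (centralizer ({d} : Set G)) ≃* Cfsg.Spor.Fi22) :
    ∃ e : ↥(centralizer ({d} : Set G)) ≃* H23, ∀ x : ↥(centralizer ({d} : Set G)), (x : G) = d → e x = FiTwenty.zH := by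
  set N := (zpowers d).subgroupOf (centralizer ({d} : Set G))
  let σ : ↥(centralizer ({d} : Set G)) →* Cfsg.Spor.Fi22 := i.toMonoidHom.comp (QuotientGroup.mk' N)
  have hle : zpowers d ≤ centralizer ({d} : Set G) :=
    (zpowers_le).2 (mem_centralizer_singleton_iff.2 rfl)
  have hker : σ.ker = N := by
    ext x
    simp only [σ, MonoidHom.mem_ker, MonoidHom.comp_apply, MulEquiv.coe_toMonoidHom, map_eq_one_iff _ i.injective,
      QuotientGroup.mk'_apply, QuotientGroup.eq_one_iff]
  have h2 : Nat.card σ.ker = 2 := by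
    rw [hker, Nat.card_congr (subgroupOfEquivOfLe hle).toEquiv, Nat.card_zpowers, hd]
  obtain ⟨e, he⟩ := double_iso σ (i.surjective.comp (QuotientGroup.mk'_surjective N)) (fun x hx => by
    rw [hker] at hx
    obtain ⟨n, hn⟩ := mem_zpowers_iff.1 hx
    refine mem_center_iff.2 fun y => Subtype.ext ?_
    have hy : Commute (y : G) d := mem_centralizer_singleton_iff.1 y.2
    show (y : G) * (x : G) = (x : G) * (y : G)
    rw [show (x : G) = d ^ n from hn.symm]
    exact (hy.zpow_right n).eq) hq.1.commutator_eq_top h2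
  refine ⟨e, fun x hx => ?_⟩
  have hd1 : d ≠ 1 := fun h => by rw [h, orderOf_one] at hd; norm_num at hd
  have h1 : FiTwenty.down (e x) = 1 := by
    rw [he, ← MonoidHom.mem_ker, hker, mem_subgroupOf, hx]
    exact mem_zpowers d
  obtain ⟨a, b, hab, huniv⟩ := Nat.card_eq_two_iff.1 FiTwenty.card_ker
  have hz : (⟨FiTwenty.zH, FiTwenty.down_z⟩ : FiTwenty.down.ker) ≠ 1 := fun h =>
    FiTwenty.z_ne (congrArg (fun t : FiTwenty.down.ker => (t.1 : Cfsg.Spor.Fi23)) h)
  have hx1 : (⟨e x, h1⟩ : FiTwenty.down.ker) ≠ 1 := fun h => hd1 (by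
    have : x = 1 := e.injective (by rw [map_one]; exact congrArg Subtype.val h)
    rw [← hx, this]; rfl)
  have key : ∀ s t u : FiTwenty.down.ker, s ≠ u → t ≠ u → s = t := fun s t u hs ht => by
    have h : ∀ w, w = a ∨ w = b := fun w => by
      have : w ∈ ({a, b} : Set FiTwenty.down.ker) := huniv ▸ Set.mem_univ w
      simpa using this
    rcases h s with rfl | rfl <;> rcases h t with rfl | rfl <;> rcases h u with rfl | rfl <;> simp_all
  exact congrArg Subtype.val (key _ _ 1 hx1 hz)

end Cfsg.Lib.M23Rec
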