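import Cfsg.Agent.M23Rec.Pattern
import Cfsg.Agent.FiTen.Main

/-!
The presented group on ten letters inside the group: it contains the centraliser of the involution, the distinguished
member going to the involution.
-/

set_option autoImplicit false
set_option linter.unusedSectionVars false
set_option linter.style.haveILetI false
set_option maxRecDepth 20000

namespace Cfsg.Lib.M23Rec

open Subgroup Cfsg.Lib.ThreeTr Cfsg.Lib.CosetCert
open scoped commutatorElement

universe u

variable {G : Type u} [Group G]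

theorem base_central (x : H23) : Commute x FiTwenty.zH := Subtype.ext (mem_H.1 x.2).eq

theorem center_cases {x : H23} (h : ∀ y, Commute x y) : x = 1 ∨ x = FiTwenty.zH :=
  down_base_cases (MonoidHom.mem_ker.1 (FiTwenty.center_eq ▸ mem_center_iff.2 fun y => (h y).eq.symm))

namespace Good

variable {d : G} {ι : H23 →* G} (h : Good d ι)
include h

/-- The model in the group. -/
theorem exists_model : ∃ f : Fj →* G, Function.Injective f ∧ f zz = d ∧ ∀ g, Commute g d → g ∈ f.range := by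
  classical
  haveI := finite_fj
  obtain ⟨c, hcD, hdc, t, ht⟩ := h.exists_eight
  have hpt : ∀ k : Fin 9, ∃ z, k ≠ 6 → Sees ι (t k) z := fun k => by
    by_cases hk : k = 6
    · exact ⟨FiPres.p0, fun e => absurd hk e⟩
    · obtain ⟨z, hz⟩ := h.sees_exists (ht k hk).1.1
      exact ⟨z, fun _ => hz⟩
  choose p hp using hpt
  have hE : FiTen.GoodE p := fun j k hjk hj hk => by
    obtain ⟨h1, h2⟩ := Good.sees_eq h (hp j hj) (hp k hk)
    obtain ⟨h3, h4⟩ := (ht k hk).2 j hj hjk
    exact ⟨fun e => h3 (h1.1 e), h2.trans h4⟩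
  obtain ⟨u, hu, hu6⟩ := FiTen.complete hE
  obtain ⟨φ, hφ⟩ := FiTen.exists_aut hu
  choose mem hmem hsees using h.sees_lift
  choose xm hxP hxι hxdown using hsees
  set xv : ℕ → H23 := fun n => if hn : n < 9 then xm (u ⟨n, hn⟩) else 1 with hxvdef
  set v : ℕ → G := fun n => ι (xv n) with hvdef
  have hxv : ∀ n : Fin 9, xv n.val = xm (u n) := fun n => by simp only [hxvdef, dif_pos n.isLt]
  have hvm : ∀ n : Fin 9, v n.val = mem (u n) := fun n => by simp only [hvdef, hxv, hxι]
  have hvD : ∀ n : Fin 9, v n.val ∈ perp (conjugatesOf d) d := fun n => hvm n ▸ hmem _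
  have hsee : ∀ n : Fin 9, Sees ι (v n.val) (u n) := fun n =>
    ⟨_, hxP (u n), by rw [hvm n]; exact hxι _, hxdown _⟩
  have hvrel : ∀ j k : Fin 9, j ≠ k → v j.val ≠ v k.val ∧
      (¬ Commute (v j.val) (v k.val) ↔ FiPres.adjB j.val k.val = true) := by
    intro j k hne
    obtain ⟨h1, h2⟩ := Good.sees_eq h (hsee j) (hsee k)
    rcases lt_or_gt_of_ne hne with e | e
    · exact ⟨fun e' => (hu j k e).1 (h1.2 e'), h2.symm.trans (hu j k e).2⟩
    · exact ⟨fun e' => (hu k j e).1 (h1.2 e').symm, by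
        rw [← h2, FiTen.rel_symm, (FiTen.adjB_ten j k).2.2.2]
        exact (hu k j e).2⟩
  have hvc : ∀ k : Fin 9, k ≠ 6 → Commute (v k.val) c := fun k hk => by
    obtain ⟨j, hj, e⟩ := hu6 k hk
    rw [(Good.sees_eq h (hsee k) (hp j hj)).1.1 e]
    exact (ht j hj).1.2
  have hvq : ∀ n, n < 9 → FiTwenty.down (xv n) = φ (FiPres.im10 n) := fun n hn => by
    simp only [hxvdef, dif_pos hn]
    exact (hxdown _).symm.trans (hφ ⟨n, hn⟩)
  -- a relation of the smaller group avoiding the seventh letter holds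
  have hkill : ∀ w : List ℕ, (∀ l ∈ w, l < 9) → 6 ∉ w → wval FiPres.im w = 1 → wval v w = 1 := by
    intro w hw h6 hw1
    have hd1 : FiTwenty.down (wval xv w) = 1 := by
      rw [map_wval xv FiTwenty.down, wval, List.map_congr_left fun l hl => hvq l (hw l hl)]
      refine (map_wval FiPres.im10 φ.toMonoidHom w).symm.trans ?_
      rw [FiPres.wval_low hw, hw1, map_one]
    have e : wval v w = ι (wval xv w) := (map_wval xv ι w).symm
    rcases down_base_cases hd1 with k | k
    · rw [e, k, map_one]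
    · exfalso
      refine hdc ?_
      rw [k, h.1.base] at e
      rw [← e, wval]
      refine Commute.list_prod_left _ _ fun y hy => ?_
      obtain ⟨l, hl, rfl⟩ := List.mem_map.1 hy
      exact hvc ⟨l, hw l hl⟩ fun e => h6 (by rwa [show l = 6 from congrArg Fin.val e] at hl)
  -- the nine members generate the centraliser
  set V : Subgroup H23 := closure {y | ∃ n : Fin 9, xv n.val = y} with hVdef
  have himg : V.map FiTwenty.down = ⊤ := by
    rw [hVdef, MonoidHom.map_closure, eq_top_iff, ← Subgroup.map_top_of_surjective φ.toMonoidHom φ.surjective,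
      ← FiPres.closure_im, MonoidHom.map_closure]
    refine closure_mono ?_
    rintro _ ⟨_, ⟨l, hl, rfl⟩, rfl⟩
    exact ⟨xv l, ⟨⟨l, hl⟩, rfl⟩, by rw [hvq l hl, FiPres.im10_low hl]; rfl⟩
  have hVtop : V = ⊤ := by
    refine top_le_iff.1 ?_
    rw [← FiSixfold.double_perfect, _root_.commutator_def, commutator_le]
    intro a _ a' _
    have ha : ∀ a : H23, ∃ y ∈ V, ∃ z : H23, (∀ w, Commute z w) ∧ a = y * z := fun a => by
      obtain ⟨y, hy, e⟩ : FiTwenty.down a ∈ V.map FiTwenty.down := himg ▸ mem_top _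
      refine ⟨y, hy, y⁻¹ * a, fun w => ?_, by group⟩
      rcases down_base_cases (x := y⁻¹ * a) (by rw [map_mul, map_inv, e, inv_mul_cancel]) with k | k <;> rw [k]
      exacts [Commute.one_left w, (base_central w).symm]
    obtain ⟨y, hy, z, c1, rfl⟩ := ha a
    obtain ⟨y', hy', z', c2, rfl⟩ := ha a'
    have : ⁅y * z, y' * z'⁆ = ⁅y, y'⁆ := by
      rw [commutatorElement_def, commutatorElement_def, mul_inv_rev, mul_inv_rev]
      calc y * z * (y' * z') * (z⁻¹ * y⁻¹) * (z'⁻¹ * y'⁻¹)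
          = y * (z * (y' * z')) * z⁻¹ * y⁻¹ * z'⁻¹ * y'⁻¹ := by group
        _ = y * y' * z' * y⁻¹ * z'⁻¹ * y'⁻¹ := by rw [(c1 _).eq]; group
        _ = y * y' * (z' * y⁻¹) * z'⁻¹ * y'⁻¹ := by group
        _ = y * y' * y⁻¹ * y'⁻¹ := by rw [(c2 _).eq]; group
    rw [this, commutatorElement_def]
    exact mul_mem (mul_mem (mul_mem hy hy') (inv_mem hy)) (inv_mem hy')
  have hrange : ∀ a : H23, ι a ∈ closure {y | ∃ n : Fin 9, v n.val = y} := fun a => by
    have h1 := mem_map_of_mem ι (show a ∈ V from hVtop ▸ mem_top a)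
    rw [hVdef, MonoidHom.map_closure] at h1
    refine closure_mono ?_ h1
    rintro _ ⟨_, ⟨n, rfl⟩, rfl⟩
    exact ⟨n, rfl⟩
  -- the seventh member does not commute with the tenth
  have hc6 : ¬ Commute (v 6) c := fun h6 => hdc (by
    have hall : ∀ n : Fin 9, Commute (v n.val) c := fun n => by
      by_cases e : n = 6
      · subst e; exact h6
      · exact hvc n e
    have hd := hrange FiTwenty.zH
    rw [h.1.base] at hd
    refine Commute.symm (mem_centralizer_singleton_iff.1 ((closure_le (centralizer {c})).2 ?_ hd)).symm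
    rintro _ ⟨n, rfl⟩
    exact mem_centralizer_singleton_iff.2 (hall n).eq)
  have hsq : ∀ a ∈ conjugatesOf d, a * a = 1 := fun a ha => by
    obtain ⟨_, hψ, -⟩ := h.view ha
    exact hψ.sq
  have hc3 : (v 6 * c) ^ 3 = 1 := by
    obtain ⟨ψ, hψ, eD⟩ := h.view (hvD 0).1
    have h06 : Commute (v 0) (v 6) := not_not.1 fun e =>
      absurd ((hvrel 0 6 (by decide)).2.1 e) (by decide)
    refine hψ.cube ?_ ?_ hc6
    · rw [eD]; exact ⟨(hvD 6).1, (hvrel 6 0 (by decide)).1, h06⟩
    · rw [eD]; exact ⟨hcD, fun e => hdc (e ▸ (hvD 0).2.2), hvc 0 (by decide)⟩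
  -- the ten letters
  set w10 : ℕ → G := fun n => if n = 9 then c else v n with hw10
  have hw9 : ∀ n, n < 9 → w10 n = v n := fun n hn => by
    simp only [hw10, if_neg (show n ≠ 9 by omega)]
  have hD10 : ∀ n : Fin 10, w10 n.val ∈ conjugatesOf d := fun n => by
    rcases Nat.lt_or_ge n.val 9 with e | e
    · rw [hw9 _ e]; exact (hvD ⟨_, e⟩).1
    · simp only [hw10, if_pos (show n.val = 9 by omega)]; exact hcD
  have h9 : ∀ a : Fin 9, (¬ Commute (v a.val) c ↔ FiTen.adjTen a.val 9 = true) := fun a => by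
    rw [(FiTen.adjB_ten a a).2.1]
    by_cases e : a = 6
    · subst e; simpa using hc6
    · simp [e, hvc a e]
  have hrel10 : ∀ a a' : Fin 10, a ≠ a' →
      (¬ Commute (w10 a.val) (w10 a'.val) ↔ FiTen.adjTen a.val a'.val = true) ∧
      (¬ Commute (w10 a.val) (w10 a'.val) → (w10 a.val * w10 a'.val) ^ 3 = 1) := by
    intro a a' hne
    have hflip : ∀ p q : G, p * p = 1 → q * q = 1 → (p * q) ^ 3 = 1 → (q * p) ^ 3 = 1 := fun p q hp hq e => by
      rw [show q * p = (p * q)⁻¹ by rw [mul_inv_rev, inv_eq_of_mul_eq_one_right hp, inv_eq_of_mul_eq_one_right hq],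
        inv_pow, e, inv_one]
    rcases Nat.lt_or_ge a.val 9 with e | e <;> rcases Nat.lt_or_ge a'.val 9 with e' | e'
    · rw [hw9 _ e, hw9 _ e', (FiTen.adjB_ten ⟨_, e⟩ ⟨_, e'⟩).1]
      exact ⟨(hvrel ⟨_, e⟩ ⟨_, e'⟩ fun k => hne (Fin.ext (Fin.mk.inj_iff.1 k))).2,
        fun hn => h.cube (hvD ⟨_, e⟩) (hvD ⟨_, e'⟩) hn⟩
    · rw [hw9 _ e, show a'.val = 9 by omega, show w10 9 = c from rfl]
      refine ⟨h9 ⟨_, e⟩, fun hn => ?_⟩
      rw [show a.val = 6 from not_not.1 fun k => hn (hvc ⟨_, e⟩ fun k' => k (congrArg Fin.val k'))]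
      exact hc3
    · rw [hw9 _ e', show a.val = 9 by omega, show w10 9 = c from rfl,
        (FiTen.adjB_ten ⟨_, e'⟩ ⟨_, e'⟩).2.2.1, ← h9 ⟨_, e'⟩]
      refine ⟨not_congr ⟨fun k => k.symm, fun k => k.symm⟩, fun hn => ?_⟩
      rw [show a'.val = 6 from not_not.1 fun k => hn (hvc ⟨_, e'⟩ fun k' => k (congrArg Fin.val k')).symm]
      exact hflip _ _ (hsq _ (hvD 6).1) (hsq _ hcD) hc3
    · exact absurd (Fin.ext (by omega)) hne
  have hgood : FiTwenty.Good w10 := by
    intro w hw
    rcases List.mem_append.1 hw with hw | hw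
    · obtain ⟨a, ha, hw⟩ := List.mem_flatMap.1 hw
      obtain ⟨a', ha', rfl⟩ := List.mem_map.1 hw
      rw [List.mem_range] at ha ha'
      rw [FiTwenty.pairWord, FiTwenty.wval_rpt, FiTwenty.wval_cons, FiTwenty.wval_cons, FiTwenty.wval_nil, mul_one,
        FiTen.label_ten ⟨a, ha⟩ ⟨a', ha'⟩]
      split_ifs with e1 e2
      · rw [pow_one, show a = a' from congrArg Fin.val e1, hsq _ (hD10 ⟨a', ha'⟩)]
      · exact (hrel10 _ _ e1).2 ((hrel10 _ _ e1).1.2 e2)
      · have hc := not_not.1 fun k => e2 ((hrel10 _ _ e1).1.1 k)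
        rw [hc.mul_pow, pow_two, pow_two, hsq _ (hD10 ⟨a, ha⟩), hsq _ (hD10 ⟨a', ha'⟩), one_mul]
    · have hcase : ∀ w' : List ℕ, (∀ l ∈ w', l < 9) → 6 ∉ w' → wval FiPres.im w' = 1 → wval w10 w' = 1 :=
        fun w' hl h6 h1 => by
          rw [← hkill w' hl h6 h1, wval, wval]
          exact congrArg List.prod (List.map_congr_left fun l hl' => hw9 l (hl l hl'))
      have hg := FiPres.good_im
      simp only [FiTwenty.extraWords, List.mem_cons, List.not_mem_nil, or_false] at hw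
      rcases hw with rfl | rfl
      · exact hcase _ (by decide) (by decide) (hg _ (List.mem_append_right _ (by
          simp [FiPres.extraWords, FiTwenty.rpt, FiPres.rpt])))
      · exact hcase _ (by decide) (by decide) (hg _ (List.mem_append_right _ (by
          simp [FiPres.extraWords, FiTwenty.rpt, FiPres.rpt])))
  let Φ : Fj →* G := PresentedGroup.toGroup hgood.relators
  have ha : ∀ l, l < 9 → Φ (FiTwenty.imZ l) = v l := fun l hl => by
    rw [FiTwenty.imZ_low (by omega), ← hw9 l hl]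
    refine (PresentedGroup.toGroup.of _).trans ?_
    show w10 (FiTwenty.idxOf (FiTwenty.genOf l)) = w10 l
    rw [(show ∀ l : Fin 9, FiTwenty.idxOf (FiTwenty.genOf l.val) = l.val by decide) ⟨l, hl⟩]
  have hd1 : d ≠ 1 := h.1.base_ne
  have hinj : Function.Injective Φ := by
    haveI := FiTwenty.simple_fi
    rcases (MonoidHom.normal_ker Φ).eq_bot_or_eq_top with e | e
    · exact Φ.ker_eq_bot_iff.1 e
    · exfalso
      have h0 : Φ (FiTwenty.imZ 0) = 1 := MonoidHom.mem_ker.1 (e ▸ mem_top _)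
      rw [ha 0 (by norm_num)] at h0
      obtain ⟨g, hg⟩ := isConj_iff.1 (hvD 0).1
      refine hd1 ?_
      rw [show d = g⁻¹ * (g * d * g⁻¹) * g by group, hg]
      show g⁻¹ * v 0 * g = 1
      rw [h0, mul_one, inv_mul_cancel]
  have hmap : ∀ a : H23, ∃ b : H23, Φ b = ι a := fun a => by
    have h1 : closure {y | ∃ n : Fin 9, v n.val = y} ≤ (H23).map Φ := (closure_le _).2 (by
      rintro _ ⟨n, rfl⟩
      exact ⟨_, imZ_mem_H n.isLt, ha n.val n.isLt⟩)
    obtain ⟨b, hb, e⟩ := h1 (hrange a)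
    exact ⟨⟨b, hb⟩, e⟩
  have hback : ∀ b : H23, ∃ a : H23, ι a = Φ b := fun b => by
    have h1 : (H23).map Φ ≤ ι.range := by
      refine map_le_iff_le_comap.2 ((closure_le _).2 ?_)
      rintro _ ⟨l, hl, rfl⟩
      exact ⟨xv l, (ha l ((show ∀ l ∈ FiTwenty.lamH, l < 9 by decide) l hl)).symm⟩
    exact h1 ⟨b, b.2, rfl⟩
  obtain ⟨ζ, hζ⟩ := hmap FiTwenty.zH
  rw [h.1.base] at hζ
  have hζc : ∀ y : H23, Commute ζ y := fun y => by
    obtain ⟨a, ha'⟩ := hback y
    refine Subtype.ext (hinj ?_)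
    rw [coe_mul, coe_mul, map_mul, map_mul, hζ, ← ha']
    exact (h.1.commute_base a).eq.symm
  have hζz : ζ = FiTwenty.zH := by
    rcases center_cases hζc with k | k
    · exact absurd (by rw [← hζ, k, OneMemClass.coe_one, map_one]) hd1
    · exact k
  rw [hζz] at hζ
  refine ⟨Φ, hinj, hζ, fun g hg => ?_⟩
  obtain ⟨a, rfl⟩ := h.1.onto g hg
  obtain ⟨b, hb⟩ := hmap a
  exact ⟨b, hb⟩

end Good

end Cfsg.Lib.M23Rec
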