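import Cfsg.Agent.M23Rec.Outside
import Cfsg.Agent.M22Rec.Main
import Cfsg.Agent.ThreeTransposition.Y332.Iso

/-!
A finite group with an involution whose centraliser is quasisimple over the presented group on nine letters, the involution
not being alone in it, is the presented group on ten letters.
-/

set_option autoImplicit false
set_option linter.unusedSectionVars false
set_option linter.style.haveILetI false
set_option maxRecDepth 20000

namespace Cfsg.Lib.M23Rec

open Subgroup Cfsg.Lib.ThreeTr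

universe u

/-- The recognition. -/
theorem recognition {G : Type u} [Group G] [Finite G] (d : G) (hd : orderOf d = 2)
    (hq : Cfsg.IsQuasisimple ↥(centralizer ({d} : Set G)))
    [hn : ((zpowers d).subgroupOf (centralizer ({d} : Set G))).Normal]
    (i : ↥(centralizer ({d} : Set G)) ⧸ (zpowers d).subgroupOf (centralizer ({d} : Set G)) ≃* Cfsg.Spor.Fi22)
    (hw : ∃ g : G, g * d * g⁻¹ ∈ centralizer ({d} : Set G) ∧ g * d * g⁻¹ ≠ d) :
    ∃ e : Fj ≃* G, e zz = d := by
  obtain ⟨e, he⟩ := centraliser_iso d hd hq i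
  have hdm : d ∈ centralizer ({d} : Set G) := mem_centralizer_singleton_iff.2 rfl
  set ι : H23 →* G := (centralizer ({d} : Set G)).subtype.comp e.symm.toMonoidHom
  have hC : Cen d ι := by
    refine ⟨(Subgroup.subtype_injective _).comp e.symm.injective, ?_, fun g hg => ?_⟩
    · show ((e.symm FiTwenty.zH : ↥(centralizer ({d} : Set G))) : G) = d
      rw [← he ⟨d, hdm⟩ rfl, MulEquiv.symm_apply_apply]
    · exact ⟨e ⟨g, mem_centralizer_singleton_iff.2 hg.eq⟩, congrArg Subtype.val (e.symm_apply_apply _)⟩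
  obtain ⟨g, hgC, hg⟩ := hw
  obtain ⟨ι', hι⟩ := hC.exists_good ⟨g, hg, mem_centralizer_singleton_iff.1 hgC⟩
  obtain ⟨f, hf⟩ := hι.exists_mdl
  exact ⟨MulEquiv.ofBijective f ⟨hf.inj, hf.surjective⟩, hf.base⟩

/-- The conjugates of the involution form a class of 3-transpositions of type M(23). -/
theorem type_of_iso {G : Type u} [Group G] {d : G} (e : Fj ≃* G) (he : e zz = d) :
    Cfsg.IsThreeTranspositionClass (conjugatesOf d) ∧ Cfsg.IsOfTypeM23 G (conjugatesOf d) := by
  haveI := finite_fj
  obtain ⟨⟨ho, hp⟩, -, hg⟩ := h23.cls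
  have hD : conjugatesOf d = e '' D0 := Set.ext fun y => by
    constructor
    · intro hy
      obtain ⟨g, rfl⟩ := isConj_iff.1 (show IsConj d y from hy)
      obtain ⟨k, rfl⟩ := e.surjective g
      exact ⟨k * zz * k⁻¹, isConj_iff.2 ⟨k, rfl⟩, by rw [map_mul, map_mul, map_inv, he]⟩
    · rintro ⟨x, hx, rfl⟩
      obtain ⟨k, rfl⟩ := isConj_iff.1 (show IsConj zz x from hx)
      exact isConj_iff.2 ⟨e k, by rw [← he, map_mul, map_mul, map_inv]⟩
  refine ⟨⟨⟨fun y hy => ?_, fun a ha b hb => ?_⟩, ⟨d, mem_conjugatesOf_self, rfl⟩, ?_⟩, hD ▸ FiTypes.type23_congr e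
    FiTypes.three_type⟩
  · rw [hD] at hy
    obtain ⟨x, hx, rfl⟩ := hy
    rw [← ho x hx]
    exact orderOf_injective e.toMonoidHom e.injective x
  · rw [hD] at ha hb
    obtain ⟨x, hx, rfl⟩ := ha
    obtain ⟨y, hy, rfl⟩ := hb
    rcases hp x hx y hy with k | k
    · exact Or.inl (by rw [← map_mul, ← map_pow, k, map_one])
    · exact Or.inr (by rw [← map_mul, ← map_pow, k, map_one])
  · rw [hD, show (e '' D0 : Set G) = e.toMonoidHom '' D0 from rfl, ← MonoidHom.map_closure, hg,
      map_top_of_surjective e.toMonoidHom e.surjective]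

end Cfsg.Lib.M23Rec
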