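import Cfsg.Agent.M23Rec.Coords

/-!
The conjugates of an involution in the span of a clique of its centraliser: the group of linear maps induced by
conjugation is transitive on them, and their set is a union of the five sets.
-/

set_option autoImplicit false
set_option linter.unusedSectionVars false
set_option linter.style.haveILetI false
set_option maxRecDepth 20000

namespace Cfsg.Lib.M23Rec

open Subgroup Cfsg.Lib.ThreeTr Cfsg.Lib.CosetCert
open Cfsg.Lib.FiTwenty.SylTwo (vv V vv_xor vv_sq vv_inj vv_zero card_V V_elem vv_mem)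

attribute [local irreducible] FiTwenty.sig0 FiTwenty.sig1 FiTwenty.sig2 FiTwenty.sig3 FiTwenty.sig4 FiTwenty.sig5
  FiTwenty.sig6 FiTwenty.sig7 FiTwenty.sig8 FiTwenty.sig9 FiTwenty.sig10 FiTwenty.subPts FiTwenty.subIdx
  FiTwenty.subTree1Mask FiTwenty.subTree2Mask

universe u

variable {G : Type u} [Group G]

/-- The model seen as the centraliser of `d`. -/
structure Cen (d : G) (ι : H23 →* G) : Prop where
  inj : Function.Injective ι
  base : ι FiTwenty.zH = d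
  onto : ∀ g, Commute g d → ∃ x, ι x = g

/-- The span in the group. -/
noncomputable def av (ι : H23 →* G) (m : ℕ) : G := ι ⟨vv m, vv_H m⟩

/-- A map of the vectors induced by conjugation. -/
def Aut (ι : H23 →* G) (φ : ℕ → ℕ) : Prop :=
  ∃ g : G, ∀ m < 2048, φ m < 2048 ∧ g * av ι m * g⁻¹ = av ι (φ m)

/-- The place of a pair of conjugates, seen from the first. -/
def Om (ι : H23 →* G) (k u v : ℕ) : Prop := ∃ φ, Aut ι φ ∧ φ 32 = u ∧ ∃ m ∈ clsL k, φ m = v

namespace Cen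

variable {d : G} {ι : H23 →* G} (h : Cen d ι)
include h

theorem commute_base (x : H23) : Commute (ι x) d := by
  rw [← h.base]
  exact (show Commute x FiTwenty.zH from Subtype.ext (mem_H.1 x.2).eq).map ι

theorem av_xor (a b : ℕ) : av ι (a ^^^ b) = av ι a * av ι b := by
  rw [av, av, av, ← map_mul]
  exact congrArg ι (Subtype.ext (vv_xor a b))

theorem av_inj {a b : ℕ} (ha : a < 2048) (hb : b < 2048) (e : av ι a = av ι b) : a = b :=
  vv_inj ha hb (congrArg Subtype.val (h.inj e))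

theorem av_base : av ι 32 = d := by
  rw [av, ← h.base]
  exact congrArg ι (Subtype.ext vv_base)

theorem av_zero : av ι 0 = 1 := by
  rw [av, ← map_one ι]
  exact congrArg ι (Subtype.ext vv_zero)

theorem base_ne : d ≠ 1 := fun e => by
  have h0 : (32 : ℕ) = 0 := h.av_inj (by norm_num) (by norm_num) (by rw [h.av_base, h.av_zero, e])
  norm_num at h0

theorem aut_inj {φ : ℕ → ℕ} (hφ : Aut ι φ) {a b : ℕ} (ha : a < 2048) (hb : b < 2048) (e : φ a = φ b) : a = b := by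
  obtain ⟨g, hg⟩ := hφ
  refine h.av_inj ha hb ?_
  have h1 := (hg a ha).2
  rw [e, ← (hg b hb).2] at h1
  exact mul_left_cancel (mul_right_cancel h1)

theorem aut_xor {φ : ℕ → ℕ} (hφ : Aut ι φ) {a b : ℕ} (ha : a < 2048) (hb : b < 2048) :
    φ (a ^^^ b) = φ a ^^^ φ b := by
  obtain ⟨g, hg⟩ := hφ
  have hab : a ^^^ b < 2048 := Nat.xor_lt_two_pow (n := 11) ha hb
  refine h.av_inj (hg _ hab).1 (Nat.xor_lt_two_pow (n := 11) (hg a ha).1 (hg b hb).1) ?_
  rw [← (hg _ hab).2, h.av_xor, h.av_xor, ← (hg a ha).2, ← (hg b hb).2]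
  group

theorem aut_surj {φ : ℕ → ℕ} (hφ : Aut ι φ) {v : ℕ} (hv : v < 2048) : ∃ m < 2048, φ m = v := by
  obtain ⟨g, hg⟩ := id hφ
  obtain ⟨m, hm⟩ := (Finite.injective_iff_surjective (f := fun m : Fin 2048 => (⟨φ m, (hg m m.2).1⟩ : Fin 2048))).1
    (fun a b e => Fin.ext (h.aut_inj hφ a.2 b.2 (congrArg Fin.val e))) ⟨v, hv⟩
  exact ⟨m, m.2, congrArg Fin.val hm⟩

theorem aut_conj {φ : ℕ → ℕ} (hφ : Aut ι φ) {m : ℕ} (hm : m < 2048) :
    IsConj d (av ι (φ m)) ↔ IsConj d (av ι m) := by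
  obtain ⟨g, hg⟩ := hφ
  rw [← (hg m hm).2]
  exact ⟨fun e => e.trans (IsConj.symm (isConj_iff.2 ⟨g, rfl⟩)), fun e => e.trans (isConj_iff.2 ⟨g, rfl⟩)⟩

omit h in
theorem aut_comp {φ ψ : ℕ → ℕ} (hφ : Aut ι φ) (hψ : Aut ι ψ) : Aut ι fun m => φ (ψ m) := by
  obtain ⟨g, hg⟩ := hφ
  obtain ⟨k, hk⟩ := hψ
  refine ⟨g * k, fun m hm => ⟨(hg _ (hk m hm).1).1, ?_⟩⟩
  rw [show g * k * av ι m * (g * k)⁻¹ = g * (k * av ι m * k⁻¹) * g⁻¹ by group, (hk m hm).2, (hg _ (hk m hm).1).2]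

theorem aut_inv {φ : ℕ → ℕ} (hφ : Aut ι φ) :
    ∃ ψ, Aut ι ψ ∧ (∀ m < 2048, ψ (φ m) = m) ∧ ∀ m < 2048, φ (ψ m) = m := by
  obtain ⟨g, hg⟩ := id hφ
  choose ψ hψ hψe using fun m : ℕ => h.aut_surj hφ (Nat.mod_lt m (show 2048 > 0 by norm_num))
  refine ⟨ψ, ⟨g⁻¹, fun m hm => ⟨hψ m, ?_⟩⟩, fun m hm => ?_, fun m hm => by rw [hψe, Nat.mod_eq_of_lt hm]⟩
  · have e := (hg _ (hψ m)).2
    rw [hψe, Nat.mod_eq_of_lt hm] at e
    rw [← e]
    group
  · exact h.aut_inj hφ (hψ _) hm (by rw [hψe, Nat.mod_eq_of_lt (hg m hm).1])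

/-- Maps fixing the base come from the centraliser and keep the sets. -/
theorem aut_cls {φ : ℕ → ℕ} (hφ : Aut ι φ) (h32 : φ 32 = 32) {k m : ℕ} (hk : k < 5) (hm : m ∈ clsL k) :
    φ m ∈ clsL k := by
  obtain ⟨g, hg⟩ := hφ
  have hc : Commute g d := by
    have := (hg 32 (by norm_num)).2
    rw [h32, h.av_base, mul_inv_eq_iff_eq_mul] at this
    exact this
  obtain ⟨x, rfl⟩ := h.onto g hc
  refine cls_stable x.2 (fun n hn => ⟨?_, (hg n hn).1⟩) hk hm
  have := (hg n hn).2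
  rw [av, av, ← map_inv, ← map_mul, ← map_mul] at this
  exact congrArg Subtype.val (h.inj this)

/-- Elementary abelian subgroups in the model. -/
theorem pullback_span {g : G} {a : ℕ → H23} (ha : ∀ m < 2048, ι (a m) = g * av ι m * g⁻¹) :
    ∃ B : Subgroup Fj, Cfsg.IsElementaryAbelian 2 B ∧ Nat.card B = 2 ^ 11 ∧
      ∀ x, x ∈ B ↔ ∃ m < 2048, (a m : Fj) = x := by
  have hxor : ∀ p < 2048, ∀ q < 2048, a (p ^^^ q) = a p * a q := fun p hp q hq => h.inj (by
    rw [map_mul, ha p hp, ha q hq, ha _ (Nat.xor_lt_two_pow (n := 11) hp hq), h.av_xor]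
    group)
  have hone : a 0 = 1 := h.inj (by rw [ha 0 (by norm_num), h.av_zero, map_one, mul_one, mul_inv_cancel])
  let B : Subgroup Fj :=
    { carrier := {x | ∃ m < 2048, (a m : Fj) = x}
      one_mem' := ⟨0, by norm_num, by rw [hone]; rfl⟩
      mul_mem' := by
        rintro _ _ ⟨p, hp, rfl⟩ ⟨q, hq, rfl⟩
        exact ⟨p ^^^ q, Nat.xor_lt_two_pow (n := 11) hp hq, by rw [hxor p hp q hq, coe_mul]⟩
      inv_mem' := by
        rintro _ ⟨p, hp, rfl⟩
        refine ⟨p, hp, eq_inv_of_mul_eq_one_left ?_⟩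
        rw [← coe_mul, ← hxor p hp p hp, Nat.xor_self, hone]
        rfl }
  refine ⟨B, ⟨⟨⟨?_⟩⟩, ?_⟩, ?_, fun _ => Iff.rfl⟩
  · rintro ⟨_, p, hp, rfl⟩ ⟨_, q, hq, rfl⟩
    refine Subtype.ext ?_
    show (a p : Fj) * a q = a q * a p
    rw [← coe_mul, ← coe_mul, ← hxor p hp q hq, ← hxor q hq p hp, Nat.xor_comm]
  · rintro _ ⟨p, hp, rfl⟩
    rw [sq, ← coe_mul, ← hxor p hp p hp, Nat.xor_self, hone]
    rfl
  · let f : Fin 2048 → B := fun m => ⟨a m, m, m.2, rfl⟩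
    have hf : Function.Bijective f := ⟨fun p q e => Fin.ext (h.av_inj p.2 q.2 (by
      have e' : a p = a q := Subtype.ext (congrArg Subtype.val e :)
      have := congrArg ι e'
      rw [ha p p.2, ha q q.2] at this
      exact mul_left_cancel (mul_right_cancel this))), fun ⟨x, m, hm, e⟩ => ⟨⟨m, hm⟩, Subtype.ext e⟩⟩
    rw [← Nat.card_eq_of_bijective f hf, Nat.card_fin]
    norm_num

/-- Conjugates in the span are images of the base. -/
theorem fuse {u : ℕ} (hu : u < 2048) (hc : IsConj d (av ι u)) : ∃ φ, Aut ι φ ∧ φ 32 = u := by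
  obtain ⟨g, hg⟩ := isConj_iff.1 hc
  have hcom : ∀ m, Commute (g⁻¹ * av ι m * g) d := fun m => by
    have h1 : Commute (av ι m) (av ι u) := by
      show av ι m * av ι u = av ι u * av ι m
      rw [← h.av_xor, ← h.av_xor, Nat.xor_comm]
    have := h1.map (MulAut.conj g⁻¹)
    simp only [MulAut.conj_apply, inv_inv] at this
    rwa [← hg, show g⁻¹ * (g * d * g⁻¹) * g = d by group] at this
  choose a ha using fun m => h.onto _ (hcom m)
  obtain ⟨B, eB, cB, hB⟩ := h.pullback_span (g := g⁻¹) (a := a) fun m _ => by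
    rw [inv_inv]; exact ha m
  obtain ⟨c, hcH, hcV⟩ := elem_conj (K := H23) (A := V) (B := B) (fun x ⟨m, _, e⟩ => e ▸ vv_H m)
    (fun x hx => by obtain ⟨m, _, rfl⟩ := (hB x).1 hx; exact (a m).2) V_elem eB card_V cB
  have himg : ∀ m < 2048, ∃ n, n < 2048 ∧ (a n : Fj) = c * vv m * c⁻¹ := fun m _ => by
    have : c * vv m * c⁻¹ ∈ B := by
      rw [← hcV]
      exact ⟨vv m, vv_mem m, rfl⟩
    exact (hB _).1 this
  choose φ hφ hφe using himg
  refine ⟨fun m => if hm : m < 2048 then φ m hm else m, ⟨g * ι ⟨c, hcH⟩, fun m hm => ?_⟩, ?_⟩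
  · beta_reduce
    rw [dif_pos hm]
    refine ⟨hφ m hm, ?_⟩
    rw [show g * ι ⟨c, hcH⟩ * av ι m * (g * ι ⟨c, hcH⟩)⁻¹ = g * (ι ⟨c, hcH⟩ * av ι m * (ι ⟨c, hcH⟩)⁻¹) * g⁻¹ by group,
      show ι ⟨c, hcH⟩ * av ι m * (ι ⟨c, hcH⟩)⁻¹ = ι (a (φ m hm)) by
        rw [av, ← map_inv, ← map_mul, ← map_mul]
        exact congrArg ι (Subtype.ext (hφe m hm).symm), ha]
    group
  · beta_reduce
    rw [dif_pos (by norm_num)]
    refine h.av_inj (hφ 32 _) hu ?_
    have e : ι (a (φ 32 (by norm_num))) = d := by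
      rw [← h.base]
      refine congrArg ι (Subtype.ext ?_)
      rw [hφe, vv_base, (mem_H.1 hcH).eq, mul_inv_cancel_right]
      rfl
    rw [ha] at e
    rw [← hg, ← e]
    group

/-- The maps fixing the base are transitive on each set. -/
theorem base_trans {k a b : ℕ} (hk : k < 5) (ha : a ∈ clsL k) (hb : b ∈ clsL k) :
    ∃ φ, Aut ι φ ∧ φ 32 = 32 ∧ φ a = b := by
  obtain ⟨c, hcH, hc⟩ := cls_conj hk ha hb
  set K : Subgroup Fj := H23 ⊓ centralizer ({vv b} : Set Fj)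
  have hV : V ≤ K := fun x ⟨m, _, e⟩ => e ▸ ⟨vv_H m, mem_centralizer_singleton_iff.2 (vv_comm m b).eq⟩
  have hcV : V.map (MulAut.conj c).toMonoidHom ≤ K := by
    rintro _ ⟨_, ⟨m, -, rfl⟩, rfl⟩
    refine mem_inf.2 ⟨mul_mem (mul_mem hcH (vv_H m)) (inv_mem hcH), mem_centralizer_singleton_iff.2 ?_⟩
    have := (vv_comm m a).map (MulAut.conj c)
    rw [MulAut.conj_apply, MulAut.conj_apply, hc] at this
    exact this.eq
  obtain ⟨k', hk', hkV⟩ := elem_conj (K := K) hcV hV (FiTwenty.SylTwo.conj_elem (MulAut.conj c) V_elem) V_elem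
    (by rw [card_map_of_injective (MulAut.conj c).injective, card_V]) card_V
  have hg : k' * c ∈ H23 := mul_mem hk'.1 hcH
  have himg : ∀ m < 2048, ∃ n, n < 2048 ∧ vv n = k' * c * vv m * (k' * c)⁻¹ := fun m _ => by
    have : k' * c * vv m * (k' * c)⁻¹ ∈ V := by
      rw [← hkV]
      refine ⟨c * vv m * c⁻¹, ⟨vv m, vv_mem m, rfl⟩, ?_⟩
      show k' * (c * vv m * c⁻¹) * k'⁻¹ = _
      group
    exact this
  choose φ hφ hφe using himg
  refine ⟨fun m => if hm : m < 2048 then φ m hm else m, ⟨ι ⟨_, hg⟩, fun m hm => ?_⟩, ?_, ?_⟩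
  · beta_reduce
    rw [dif_pos hm]
    refine ⟨hφ m hm, ?_⟩
    rw [av, ← map_inv, ← map_mul, ← map_mul]
    exact congrArg ι (Subtype.ext (hφe m hm).symm)
  · beta_reduce
    rw [dif_pos (by norm_num)]
    refine vv_inj (hφ _ _) (by norm_num) ?_
    rw [hφe, vv_base, (mem_H.1 hg).eq, mul_inv_cancel_right]
  · beta_reduce
    rw [dif_pos (cls_lt hk ha).1]
    refine vv_inj (hφ _ _) (cls_lt hk hb).1 ?_
    rw [hφe, show k' * c * vv a * (k' * c)⁻¹ = k' * (c * vv a * c⁻¹) * k'⁻¹ by group, hc,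
      mem_centralizer_singleton_iff.1 hk'.2, mul_inv_cancel_right]

end Cen

end Cfsg.Lib.M23Rec
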