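import Mathlib

/-!
Generated: the five sets of vectors beside the distinguished one, as masks.
-/

set_option autoImplicit false

namespace Cfsg.Lib.M23Rec

def mask0 : ℕ := 0x40000000020000000000000000000000000000000000000000000000000000000000000000000000000000080000040000000000000000000000200000000000000000000000000100000000000000000000000000000000008000000000000000000000000000000000000000000000000000000010001000000000000000000000000000000000000000000002000000000000000000000000000000000000000080000000000000000000000000000000000000100000000000000000000000000000000000000000080000000000000000000014000000000000000000000000000000100000000000000010000000000010116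

def mask1 : ℕ := 0x2000000400000000000000000000000000000000000000000000000000000000000000000000008000000000000000000000400000020000000000000000000000000000000000000000001000000000000000000000000000000000080000000000000000000000000000000000000001000000000000000000010000000000000000000000000000000000000000000020000000000000000000000008000000000000000000000000000000000000010000000000000000000000000000000000000000008000000000000000000001000000000000000040000000000000010000000000000001000000000001011600000000

def mask2 : ℕ := 0x810400420000200400490400202092080010020010800420400400010800202000001800048100004204001800002001400000800268804094024000008001000010082902024080100400020400201004611002800000000210804000080140080886021000000100200800804001002010080400800108400000200101160116800100001008200104000840002020010040048002009220200800004001400102000820004000001080860808010008042010008001204000000801011640010020028004000008024010008001000018008068008124000000008101169440400800002001402000000801011642000000008101160000800001161668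

def mask3 : ℕ := 0x42000020008104000020209204004904001080040800100201080020204004000004810020000018180000200042040080026880014000000000800140940240290202400000100802040020801004000280000010046110400008010002108002100000400808860080400101002008040080010020100820010116084000000000100801168001084000202001040004800200200100400000400192202008082000404001020086080801000010801000800100080420080101162040000002800400400100201000800100080240806800810000180000810116240000000000200194404008080101164020000000810116420000000116166800008000

def mask4 : ℕ := 0xbd7efbdfbd7efbdffbdf9249fbdf9249f7ef6ff9f7ef6ff9deb7fbdfdeb7fbdfdffb7ee7dffb7ee7e7bdfbdfe7bdfbdf7ebd177f7ebd177fbf2b7dbebf2b7dbed4fdedb7d4fdedb77debfbdf7debfbdfed7b8eefed7b8eefbffde77ebffde77ebde7f771bde7f771fe7f9ff6fe7f9ff6fbdf6ff6fbdf6ff6d7befee8d7befee8fee86ff6fee86ff6d7befbdfd7befbdfdb7efdbfdb7efdbf4ddf9ff64ddf9ff6b7defdbfb7defdbf71f7e77e71f7e77eeff77bdeeff77bded7befee8d7befee8bd7efbdfbd7efbdfeff77dbeeff77dbe7f17e77e7f17e77edb7efee8db7efee82bbf9ff62bbf9ff6b7defee8b7defee8bd7efee8bd7efee8fee86880fee86880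

/-- The mask of one of the sets. -/
def clsM : ℕ → ℕ
  | 0 => mask0
  | 1 => mask1
  | 2 => mask2
  | 3 => mask3
  | 4 => mask4
  | _ => 0

end Cfsg.Lib.M23Rec
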