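import Cfsg.Agent.M23Rec.CoordData
import Cfsg.Agent.M23Rec.MaskData

/-!
The five sets of vectors in the span of a clique beside the distinguished one, and the finite facts excluding all but
two of their unions as a set of conjugates.
-/

set_option autoImplicit false
set_option maxRecDepth 20000
set_option Elab.async false

namespace Cfsg.Lib.M23Rec

/-- The five sets: members, their translates, sums of pairs, their translates, sums of triples. -/
def clsL : ℕ → List ℕ
  | 0 => xs
  | 1 => xs.map fun x => 32 ^^^ x
  | 2 => (List.range 22).flatMap fun i => (List.range i).map fun j => xs.getD j 0 ^^^ xs.getD i 0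
  | 3 => (List.range 22).flatMap fun i => (List.range i).map fun j => 32 ^^^ (xs.getD j 0 ^^^ xs.getD i 0)
  | 4 => (List.range 22).flatMap fun i => (List.range i).flatMap fun j => (List.range j).map fun k =>
      xs.getD k 0 ^^^ (xs.getD j 0 ^^^ xs.getD i 0)
  | _ => []

/-- The mask of a union with the distinguished vector. -/
def unionM (b : Fin 5 → Bool) : ℕ :=
  (List.finRange 5).foldl (fun M k => if b k then M ||| clsM k.val else M) (1 <<< 32)

/-- The number of members with sum with `u` in the set. -/
def nVal (O u : ℕ) : ℕ := ((List.range 2048).filter fun v => O.testBit v && O.testBit (u ^^^ v)).length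

/-- The unions with the same count at all members. -/
def survivors : List (List Bool) :=
  [[false, false, false, false, false], [true, false, false, false, false], [false, true, false, false, false],
   [true, true, true, false, false], [true, true, true, true, true]]

theorem cls_cover : ((List.range 2048).all fun m => (m == 0) || (m == 32) ||
    (((List.range 5).filter fun k => (clsM k).testBit m).length == 1)) = true := by decide +kernel

theorem cls_ok : ((List.range 5).all fun k => ((clsL k).all fun m => decide (m < 2048) && (m != 0) && (m != 32)) &&
    ((clsL k).foldl (fun M v => M ||| 1 <<< v) 0 == clsM k) &&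
    (((List.range 2048).filter fun m => (clsM k).testBit m).length == [22, 22, 231, 231, 1540].getD k 0)) = true := by
  decide +kernel

theorem union_mem : ∀ b : Fin 5 → Bool, ((List.range 2048).all fun m => (unionM b).testBit m ==
    ((m == 32) || (List.finRange 5).any fun k => b k && (clsM k.val).testBit m)) = true := by decide +kernel

/-- A union whose count differs between two members. -/
theorem combos : ∀ b : Fin 5 → Bool, List.ofFn b ∈ survivors ∨
    ∃ k : Fin 5, b k = true ∧ nVal (unionM b) ((clsL k.val).getD 0 0) ≠ nVal (unionM b) 32 := by decide +kernel

/-- Whether two vectors are equal or have sum in the set. -/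
def sameB (O u v w : ℕ) : Bool := (v == w) || (O.testBit (v ^^^ w) && (v ^^^ w != u))

/-- The set of pairs with the members and their translates. -/
def O276 : ℕ := unionM ![true, true, true, false, false]

theorem split_at_base :
    (((List.range 2048).all fun v => ((clsM 0).testBit v || (clsM 1).testBit v) ==
      (O276.testBit v && O276.testBit (32 ^^^ v))) &&
    ((clsL 0 ++ clsL 1).all fun v => (clsL 0 ++ clsL 1).all fun w =>
      sameB O276 32 v w == ((clsM 0).testBit v == (clsM 0).testBit w))) = true := by decide +kernel

/-- The six sums of four points. -/
def six : List ℕ := [32, 1, 2, 33, 34, 3]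

/-- The first neighbour among the six. -/
def firstN (u : ℕ) : ℕ := (six.find? fun v => (v != u) && O276.testBit (u ^^^ v)).getD 0

/-- The side of a neighbour, from the side of the first one. -/
def sideB (b : Bool) (u v : ℕ) : Bool := if sameB O276 u (firstN u) v then b else !b

theorem six_ok : (six.all fun u => O276.testBit u && six.contains (firstN u) && (firstN u != u) &&
    O276.testBit (u ^^^ firstN u)) = true := by decide +kernel

/-- The sides cannot be reversed alike. -/
theorem no_sides : ∀ (b : Fin 6 → Bool) (s : Bool), ∃ i j : Fin 6,
    (six.getD i.val 0 != six.getD j.val 0) = true ∧ O276.testBit (six.getD i.val 0 ^^^ six.getD j.val 0) = true ∧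
      sideB (b j) (six.getD j.val 0) (six.getD i.val 0) ≠
        (sideB (b i) (six.getD i.val 0) (six.getD j.val 0) == s) := by decide +kernel

theorem shift_facts : (((List.range 2048).all fun v => (clsM 1).testBit v == (clsM 0).testBit (32 ^^^ v))) = true := by
  decide +kernel

end Cfsg.Lib.M23Rec
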