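import Mathlib

/-!
Generated: the coordinates of the twenty-two other members of the clique and words carrying the base point to them.
-/

set_option autoImplicit false

namespace Cfsg.Lib.M23Rec

/-- The coordinates. -/
def xs : List ℕ := [1, 2, 4, 8, 16, 64, 128, 256, 254, 512, 829, 667, 1008, 343, 1024, 1388, 1251, 1497, 1615, 1590, 1925, 1962]

/-- The words. -/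
def xW : List (List ℕ) := [[1, 2, 3, 4, 5, 6, 9, 10, 0, 1, 2, 3, 4, 5, 6, 9],
  [3, 4, 5, 6, 9, 10, 2, 3, 4, 5, 6, 9],
  [5, 6, 9, 10, 4, 5, 6, 9],
  [9, 10, 6, 9],
  [3, 4, 5, 6, 9, 10, 7, 3, 4, 5, 6, 9],
  [5, 6, 9, 10, 3, 7, 2, 3, 4, 5, 6, 9],
  [9, 10, 5, 4, 3, 7, 2, 3, 4, 5, 6, 9],
  [5, 6, 9, 10, 1, 2, 3, 7, 0, 1, 2, 3, 4, 5, 6, 9],
  [9, 6, 5, 4, 3, 7, 2, 3, 4, 5, 6, 9],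
  [9, 10, 5, 4, 1, 2, 3, 7, 0, 1, 2, 3, 4, 5, 6, 9],
  [9, 6, 5, 4, 1, 2, 3, 7, 0, 1, 2, 3, 4, 5, 6, 9],
  [9, 6, 3, 4, 5, 2, 3, 4, 1, 2, 3, 7, 0, 1, 2, 3, 4, 5, 6, 9],
  [9, 10, 3, 4, 5, 2, 3, 4, 1, 2, 3, 7, 0, 1, 2, 3, 4, 5, 6, 9],
  [5, 6, 9, 10, 4, 3, 7, 2, 3, 4, 1, 2, 3, 7, 0, 1, 2, 3, 4, 5, 6, 9],
  [9, 10, 8, 7, 3, 4, 2, 3, 7, 8, 5, 4, 1, 2, 3, 7, 0, 1, 2, 3, 4, 5, 6, 9],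
  [9, 8, 7, 3, 4, 2, 3, 7, 8, 6, 5, 4, 1, 2, 3, 7, 0, 1, 2, 3, 4, 5, 6, 9],
  [9, 8, 7, 3, 4, 2, 3, 7, 8, 6, 3, 4, 5, 2, 3, 4, 1, 2, 3, 7, 0, 1, 2, 3, 4, 5, 6, 9],
  [9, 10, 8, 7, 3, 4, 2, 3, 7, 8, 3, 4, 5, 2, 3, 4, 1, 2, 3, 7, 0, 1, 2, 3, 4, 5, 6, 9],
  [5, 6, 9, 8, 7, 4, 5, 3, 4, 2, 3, 7, 8, 6, 5, 4, 1, 2, 3, 7, 0, 1, 2, 3, 4, 5, 6, 9],
  [9, 10, 8, 7, 1, 2, 3, 4, 0, 1, 2, 3, 7, 8, 3, 4, 5, 2, 3, 4, 1, 2, 3, 7, 0, 1, 2, 3, 4, 5, 6, 9],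
  [9, 5, 4, 3, 7, 8, 2, 3, 7, 4, 5, 3, 4, 2, 3, 7, 8, 6, 5, 4, 1, 2, 3, 7, 0, 1, 2, 3, 4, 5, 6, 9],
  [5, 6, 9, 3, 7, 8, 2, 3, 7, 4, 5, 3, 4, 2, 3, 7, 8, 6, 5, 4, 1, 2, 3, 7, 0, 1, 2, 3, 4, 5, 6, 9]]

end Cfsg.Lib.M23Rec
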