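import Cfsg.Agent.M23Rec.Model
import Cfsg.Agent.M23Rec.Combos

/-!
The span of a clique through the distinguished member: the five sets of vectors are conjugacy classes of the
centraliser, and elements of the centraliser normalising the span keep each of them.
-/

set_option autoImplicit false
set_option linter.unusedSectionVars false
set_option linter.style.haveILetI false
set_option maxRecDepth 20000

namespace Cfsg.Lib.M23Rec

open Cfsg Subgroup Cfsg.Lib.ThreeTr Cfsg.Lib.CosetCert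
open Cfsg.Lib.FiTwenty.SylTwo (vv V sameQ sameQ_iff vW vW_lt wval_vW vv_xor vv_sq vv_inj vv_mem vv_zero card_V V_elem)

attribute [local irreducible] FiTwenty.sig0 FiTwenty.sig1 FiTwenty.sig2 FiTwenty.sig3 FiTwenty.sig4 FiTwenty.sig5
  FiTwenty.sig6 FiTwenty.sig7 FiTwenty.sig8 FiTwenty.sig9 FiTwenty.sig10 FiTwenty.subPts FiTwenty.subIdx
  FiTwenty.subTree1Mask FiTwenty.subTree2Mask

theorem x_words : ((List.range 22).all fun i => decide (xs.getD i 0 < 2048) &&
    (xW.getD i []).all (fun l => decide (l < 11)) &&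
    sameQ (xW.getD i [] ++ 10 :: (xW.getD i []).reverse) (vW (xs.getD i 0))) = true ∧
    sameQ [10] (vW 32) = true := by decide +kernel

theorem vv_base : vv 32 = zz := by
  have h := (sameQ_iff (u := [10]) (by simp) (vW_lt 32)).1 x_words.2
  rw [wval_vW, FiTwenty.wval_cons, FiTwenty.wval_nil, mul_one] at h
  exact h.symm

theorem vv_comm (a b : ℕ) : Commute (vv a) (vv b) := by
  show vv a * vv b = vv b * vv a
  rw [← vv_xor, ← vv_xor, Nat.xor_comm]

theorem vv_H (m : ℕ) : vv m ∈ H23 := mem_H.2 (vv_base ▸ vv_comm m 32)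

theorem vv_eq_one {m : ℕ} (hm : m < 2048) (h : vv m = 1) : m = 0 :=
  vv_inj hm (by norm_num) (h.trans vv_zero.symm)

theorem x_mem {i : ℕ} (hi : i < 22) : vv (xs.getD i 0) ∈ D0 := by
  have h := List.all_eq_true.1 x_words.1 i (List.mem_range.2 hi)
  simp only [Bool.and_eq_true, decide_eq_true_eq, List.all_eq_true] at h
  have e := (sameQ_iff (fun l hl => by
    simp only [List.mem_append, List.mem_cons, List.mem_reverse] at hl
    rcases hl with hl | rfl | hl
    exacts [h.1.2 l hl, Nat.lt_succ_self 10, h.1.2 l hl]) (vW_lt _)).1 h.2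
  rw [wval_vW, FiTwenty.wval_append, FiTwenty.wval_cons,
    wval_reverse _ fun l hl => (Nat.lt_succ_iff_lt_or_eq.1 (h.1.2 l hl)).elim (fun h => FiTwenty.imZ_sq h) (fun h => h ▸ zz_sq), ← mul_assoc] at e
  exact FiTwenty.mem_transp.2 ⟨_, e⟩

theorem cls_lt {k m : ℕ} (hk : k < 5) (h : m ∈ clsL k) : m < 2048 ∧ m ≠ 0 ∧ m ≠ 32 := by
  have h' := List.all_eq_true.1 cls_ok k (List.mem_range.2 hk)
  simp only [Bool.and_eq_true, List.all_eq_true] at h'
  have := h'.1.1 m h
  simp only [Bool.and_eq_true, decide_eq_true_eq, bne_iff_ne] at this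
  exact ⟨this.1.1, this.1.2, this.2⟩

theorem fold_bit : ∀ (l : List ℕ) (M m : ℕ),
    (l.foldl (fun M v => M ||| 1 <<< v) M).testBit m = (M.testBit m || l.contains m)
  | [], M, m => by simp
  | v :: l, M, m => by
    rw [List.foldl_cons, fold_bit l, Nat.testBit_or, Nat.one_shiftLeft, Nat.testBit_two_pow, List.contains_cons,
      Bool.or_assoc]
    congr 2
    by_cases h : v = m <;> simp [h, Ne.symm]

theorem mem_cls {k m : ℕ} (hk : k < 5) : (clsM k).testBit m = true ↔ m ∈ clsL k := by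
  have h' := List.all_eq_true.1 cls_ok k (List.mem_range.2 hk)
  simp only [Bool.and_eq_true, beq_iff_eq] at h'
  rw [← h'.1.2, fold_bit, Nat.zero_testBit, Bool.false_or, List.contains_iff_mem]

theorem cls_card {k : ℕ} (hk : k < 5) :
    (((List.range 2048).filter fun m => (clsM k).testBit m).length) = [22, 22, 231, 231, 1540].getD k 0 := by
  have h' := List.all_eq_true.1 cls_ok k (List.mem_range.2 hk)
  simp only [Bool.and_eq_true, beq_iff_eq] at h'
  exact h'.2

theorem cls_cases {m : ℕ} (hm : m < 2048) (h0 : m ≠ 0) (h32 : m ≠ 32) :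
    ∃ k < 5, m ∈ clsL k ∧ ∀ j < 5, m ∈ clsL j → j = k := by
  have h := List.all_eq_true.1 cls_cover m (List.mem_range.2 hm)
  simp only [Bool.or_eq_true, beq_iff_eq, h0, h32, false_or] at h
  obtain ⟨k, hk⟩ := List.length_eq_one_iff.1 h
  have hm' : ∀ j, j ∈ ((List.range 5).filter fun k => (clsM k).testBit m) ↔ j < 5 ∧ m ∈ clsL j := fun j => by
    rw [List.mem_filter, List.mem_range]
    exact ⟨fun h => ⟨h.1, (mem_cls h.1).1 h.2⟩, fun h => ⟨h.1, (mem_cls h.1).2 h.2⟩⟩
  have hk' := (hm' k).1 (hk ▸ List.mem_singleton.2 rfl)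
  exact ⟨k, hk'.1, hk'.2, fun j hj hjm => List.mem_singleton.1 (hk ▸ (hm' j).2 ⟨hj, hjm⟩)⟩

theorem x_P0 {i : ℕ} (hi : i < 22) : vv (xs.getD i 0) ∈ P0 := by
  have hm : xs.getD i 0 ∈ clsL 0 := by
    have : i < xs.length := hi
    rw [List.getD_eq_getElem _ _ this]
    exact List.getElem_mem this
  obtain ⟨h1, -, h3⟩ := cls_lt (by norm_num) hm
  exact ⟨x_mem hi, fun e => h3 (vv_inj h1 (by norm_num) (e.trans vv_base.symm)), vv_base ▸ vv_comm 32 _⟩

theorem xs_inj : ∀ i < 22, ∀ j < 22, xs.getD i 0 = xs.getD j 0 → i = j := by decide +kernel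

/-- The listed vectors as products of commuting members, with or without the distinguished one. -/
theorem cls_form {k m : ℕ} (hk : k < 5) (h : m ∈ clsL k) :
    ∃ l : List Fj, CList D0 l ∧ (∀ x ∈ l, x ∈ P0) ∧ l.length = [1, 1, 2, 2, 3].getD k 0 ∧
      vv m = (if k = 1 ∨ k = 3 then zz else 1) * l.prod := by
  have hC : ∀ is : List ℕ, is.Nodup → (∀ i ∈ is, i < 22) →
      CList D0 (is.map fun i => vv (xs.getD i 0)) ∧ ∀ x ∈ is.map (fun i => vv (xs.getD i 0)), x ∈ P0 := by
    intro is hn hlt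
    have hm : ∀ x ∈ is.map (fun i => vv (xs.getD i 0)), x ∈ P0 := fun x hx => by
      obtain ⟨i, hi, rfl⟩ := List.mem_map.1 hx
      exact x_P0 (hlt i hi)
    refine ⟨⟨hn.map_on fun i hi j hj e => xs_inj i (hlt i hi) j (hlt j hj) (vv_inj ?_ ?_ e), fun x hx => (hm x hx).1,
      fun x hx y hy => ?_⟩, hm⟩
    · have := hlt i hi
      exact decide_eq_true_eq.mp (Bool.and_eq_true_iff.1 (Bool.and_eq_true_iff.1
        (List.all_eq_true.1 x_words.1 i (List.mem_range.2 this))).1).1
    · have := hlt j hj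
      exact decide_eq_true_eq.mp (Bool.and_eq_true_iff.1 (Bool.and_eq_true_iff.1
        (List.all_eq_true.1 x_words.1 j (List.mem_range.2 this))).1).1
    · obtain ⟨i, -, rfl⟩ := List.mem_map.1 hx
      obtain ⟨j, -, rfl⟩ := List.mem_map.1 hy
      exact vv_comm _ _
  interval_cases k
  · obtain ⟨i, hi, rfl⟩ := List.getElem_of_mem h
    obtain ⟨a, b⟩ := hC [i] (List.nodup_singleton i) (by simpa using show i < 22 from hi)
    refine ⟨_, a, b, rfl, ?_⟩
    rw [if_neg (by norm_num), one_mul, List.map_cons, List.map_nil, List.prod_singleton,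
      List.getD_eq_getElem xs 0 (show i < xs.length from hi)]
    rfl
  · obtain ⟨x, hx, rfl⟩ := List.mem_map.1 h
    obtain ⟨i, hi, rfl⟩ := List.getElem_of_mem hx
    obtain ⟨a, b⟩ := hC [i] (List.nodup_singleton i) (by simpa using show i < 22 from hi)
    refine ⟨_, a, b, rfl, ?_⟩
    rw [if_pos (by norm_num), List.map_cons, List.map_nil, List.prod_singleton, List.getD_eq_getElem _ _ hi,
      vv_xor, vv_base]
  · simp only [clsL, List.mem_flatMap, List.mem_map, List.mem_range] at h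
    obtain ⟨i, hi, j, hj, rfl⟩ := h
    obtain ⟨a, b⟩ := hC [j, i] (by simp; omega) (by simp; omega)
    refine ⟨_, a, b, rfl, ?_⟩
    rw [if_neg (by norm_num), one_mul, vv_xor]
    simp
  · simp only [clsL, List.mem_flatMap, List.mem_map, List.mem_range] at h
    obtain ⟨i, hi, j, hj, rfl⟩ := h
    obtain ⟨a, b⟩ := hC [j, i] (by simp; omega) (by simp; omega)
    refine ⟨_, a, b, rfl, ?_⟩
    rw [if_pos (by norm_num), vv_xor, vv_xor, vv_base]
    simp
  · simp only [clsL, List.mem_flatMap, List.mem_map, List.mem_range] at h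
    obtain ⟨i, hi, j, hj, k', hk', rfl⟩ := h
    obtain ⟨a, b⟩ := hC [k', j, i] (by simp; omega) (by simp; omega)
    refine ⟨_, a, b, rfl, ?_⟩
    rw [if_neg (by norm_num), one_mul, vv_xor, vv_xor]
    simp [mul_assoc]

/-- Vectors in one set are conjugate in the centraliser. -/
theorem cls_conj {k a b : ℕ} (hk : k < 5) (ha : a ∈ clsL k) (hb : b ∈ clsL k) :
    ∃ c ∈ H23, c * vv a * c⁻¹ = vv b := by
  obtain ⟨l, hl, hm, hlen, e⟩ := cls_form hk ha
  obtain ⟨l', hl', hm', hlen', e'⟩ := cls_form hk hb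
  obtain ⟨c, hc, rfl⟩ := perp_lists hl hl' hm hm' (hlen.trans hlen'.symm) (by
    rw [hlen]; exact (show ∀ k < 5, [1, 1, 2, 2, 3].getD k 0 ≤ 3 by decide) k hk)
  refine ⟨c, hc, ?_⟩
  rw [e, e', conj_list_prod]
  split_ifs
  · calc c * (zz * l.prod) * c⁻¹ = c * zz * l.prod * c⁻¹ := by group
      _ = zz * c * l.prod * c⁻¹ := by rw [(mem_H.1 hc).eq]
      _ = _ := by group
  · group

theorem vv_perp {m : ℕ} (hm : m < 2048) (h : vv m ∈ P0) : m ∈ clsL 0 := by
  haveI := finite_fj
  have h0 : m ≠ 0 := fun e => by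
    have := h23.cls.1.1 _ h.1
    rw [e, vv_zero, orderOf_one] at this
    norm_num at this
  have h32 : m ≠ 32 := fun e => h.2.1 (by rw [e, vv_base])
  obtain ⟨k, hk, hmk, -⟩ := cls_cases hm h0 h32
  obtain ⟨l, hl, hlm, hlen, e⟩ := cls_form hk hmk
  have h1 : CList D0 [vv m] := ⟨List.nodup_singleton _, by simpa using h.1, by simp⟩
  have hzl : CList D0 (zz :: l) := hl.cons zz_mem hlm
  interval_cases k
  · exact hmk
  all_goals exfalso
  · rw [if_pos (by norm_num), ← List.prod_cons] at e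
    have := h23.length_unique h1 hzl (by simp) (by simp) (by simp) (by rw [List.length_cons, hlen]; decide)
      (by simpa using e)
    rw [List.length_cons, List.length_cons, hlen] at this
    simp at this
  · rw [if_neg (by norm_num), one_mul] at e
    have := h23.length_unique h1 hl (by simp) (by simp) (by rw [hlen]; decide) (by rw [hlen]; decide)
      (by simpa using e)
    rw [List.length_cons, hlen] at this
    simp at this
  · rw [if_pos (by norm_num), ← List.prod_cons] at e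
    have := h23.length_unique h1 hzl (by simp) (by simp) (by simp) (by rw [List.length_cons, hlen]; decide)
      (by simpa using e)
    rw [List.length_cons, List.length_cons, hlen] at this
    simp at this
  · rw [if_neg (by norm_num), one_mul] at e
    have := h23.length_unique h1 hl (by simp) (by simp) (by rw [hlen]; decide) (by rw [hlen]; decide)
      (by simpa using e)
    rw [List.length_cons, hlen] at this
    simp at this

/-- Elements of the centraliser normalising the span keep the sets. -/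
theorem cls_stable {g : Fj} (hg : g ∈ H23) {φ : ℕ → ℕ} (hφ : ∀ m < 2048, g * vv m * g⁻¹ = vv (φ m) ∧ φ m < 2048)
    {k m : ℕ} (hk : k < 5) (h : m ∈ clsL k) : φ m ∈ clsL k := by
  have hx : ∀ x ∈ xs, φ x ∈ xs := by
    intro x hx
    obtain ⟨h1, -, -⟩ := cls_lt (k := 0) (by norm_num) hx
    obtain ⟨i, hi, rfl⟩ := List.getElem_of_mem hx
    refine vv_perp (hφ _ h1).2 ?_
    rw [← (hφ _ h1).1, ← List.getD_eq_getElem _ 0 hi]
    exact P0_conj hg (x_P0 hi)
  have hxor : ∀ a < 2048, ∀ b < 2048, φ (a ^^^ b) = φ a ^^^ φ b := fun a ha b hb => by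
    have hab : a ^^^ b < 2048 := Nat.xor_lt_two_pow (n := 11) ha hb
    refine vv_inj (hφ _ hab).2 (Nat.xor_lt_two_pow (n := 11) (hφ a ha).2 (hφ b hb).2) ?_
    rw [vv_xor, ← (hφ a ha).1, ← (hφ b hb).1, ← (hφ _ hab).1, vv_xor]
    group
  have h32 : φ 32 = 32 := vv_inj (hφ 32 (by norm_num)).2 (by norm_num) (by
    rw [← (hφ 32 (by norm_num)).1, vv_base, (mem_H.1 hg).eq, mul_inv_cancel_right])
  have hget : ∀ i < 22, ∃ i' < 22, φ (xs.getD i 0) = xs.getD i' 0 := fun i hi => by
    have hm : xs.getD i 0 ∈ xs := by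
      rw [List.getD_eq_getElem _ _ (show i < xs.length from hi)]
      exact List.getElem_mem _
    obtain ⟨i', hi', e⟩ := List.getElem_of_mem (hx _ hm)
    exact ⟨i', hi', by rw [List.getD_eq_getElem _ _ hi', e]⟩
  have hlt : ∀ i < 22, xs.getD i 0 < 2048 := fun i hi => decide_eq_true_eq.mp (Bool.and_eq_true_iff.1
    (Bool.and_eq_true_iff.1 (List.all_eq_true.1 x_words.1 i (List.mem_range.2 hi))).1).1
  have hinj : ∀ i < 22, ∀ j < 22, i ≠ j → φ (xs.getD i 0) ≠ φ (xs.getD j 0) := fun i hi j hj hne e => by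
    refine hne (xs_inj i hi j hj (vv_inj (hlt i hi) (hlt j hj) ?_))
    have h1 := (hφ _ (hlt i hi)).1
    rw [e, ← (hφ _ (hlt j hj)).1] at h1
    exact mul_left_cancel (mul_right_cancel h1)
  have hpair : ∀ i < 22, ∀ j < i, ∃ i' < 22, ∃ j' < i', φ (xs.getD j 0 ^^^ xs.getD i 0) = xs.getD j' 0 ^^^ xs.getD i' 0 := by
    intro i hi j hj
    obtain ⟨a, ha, ea⟩ := hget j (by omega)
    obtain ⟨b, hb, eb⟩ := hget i hi
    have hab : a ≠ b := fun e => hinj j (by omega) i hi (by omega) (by rw [ea, eb, e])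
    rw [hxor _ (hlt j (by omega)) _ (hlt i hi), ea, eb]
    rcases lt_or_gt_of_ne hab with h | h
    exacts [⟨b, hb, a, h, rfl⟩, ⟨a, ha, b, h, Nat.xor_comm _ _⟩]
  interval_cases k
  · exact hx m h
  · obtain ⟨x, hxm, rfl⟩ := List.mem_map.1 h
    obtain ⟨h1, -, -⟩ := cls_lt (k := 0) (by norm_num) hxm
    rw [hxor 32 (by norm_num) x h1, h32]
    exact List.mem_map.2 ⟨φ x, hx x hxm, rfl⟩
  · simp only [clsL, List.mem_flatMap, List.mem_map, List.mem_range] at h ⊢
    obtain ⟨i, hi, j, hj, rfl⟩ := h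
    obtain ⟨i', hi', j', hj', e⟩ := hpair i hi j hj
    exact ⟨i', hi', j', hj', e.symm⟩
  · simp only [clsL, List.mem_flatMap, List.mem_map, List.mem_range] at h ⊢
    obtain ⟨i, hi, j, hj, rfl⟩ := h
    obtain ⟨i', hi', j', hj', e⟩ := hpair i hi j hj
    refine ⟨i', hi', j', hj', ?_⟩
    rw [hxor 32 (by norm_num) _ (Nat.xor_lt_two_pow (n := 11) (hlt j (by omega)) (hlt i hi)), h32, e]
  · simp only [clsL, List.mem_flatMap, List.mem_map, List.mem_range] at h ⊢
    obtain ⟨i, hi, j, hj, l, hl, rfl⟩ := h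
    obtain ⟨a, ha, ea⟩ := hget l (by omega)
    obtain ⟨b, hb, eb⟩ := hget j (by omega)
    obtain ⟨c, hc, ec⟩ := hget i hi
    have hab : a ≠ b := fun e => hinj l (by omega) j (by omega) (by omega) (by rw [ea, eb, e])
    have hac : a ≠ c := fun e => hinj l (by omega) i hi (by omega) (by rw [ea, ec, e])
    have hbc : b ≠ c := fun e => hinj j (by omega) i hi (by omega) (by rw [eb, ec, e])
    rw [hxor _ (hlt l (by omega)) _ (Nat.xor_lt_two_pow (n := 11) (hlt j (by omega)) (hlt i hi)),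
      hxor _ (hlt j (by omega)) _ (hlt i hi), ea, eb, ec]
    have hperm : ∀ u v w : ℕ, u ^^^ (v ^^^ w) = v ^^^ (u ^^^ w) ∧ u ^^^ (v ^^^ w) = u ^^^ (w ^^^ v) := fun u v w =>
      ⟨Nat.xor_left_comm u v w, by rw [Nat.xor_comm v w]⟩
    rcases lt_or_gt_of_ne hab with h1 | h1 <;> rcases lt_or_gt_of_ne hac with h2 | h2 <;>
      rcases lt_or_gt_of_ne hbc with h3 | h3
    case inl.inl.inl => exact ⟨c, hc, b, h3, a, h1, rfl⟩
    case inl.inl.inr => exact ⟨b, hb, c, h3, a, h2, by simp [Nat.xor_comm, Nat.xor_left_comm, Nat.xor_assoc]⟩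
    case inl.inr.inr => exact ⟨b, hb, a, h1, c, h2, by simp [Nat.xor_comm, Nat.xor_left_comm, Nat.xor_assoc]⟩
    case inr.inl.inl => exact ⟨c, hc, a, h2, b, h1, by simp [Nat.xor_comm, Nat.xor_left_comm, Nat.xor_assoc]⟩
    case inr.inr.inl => exact ⟨a, ha, c, h2, b, h3, by simp [Nat.xor_comm, Nat.xor_left_comm, Nat.xor_assoc]⟩
    case inr.inr.inr => exact ⟨a, ha, b, h1, c, h3, by simp [Nat.xor_comm, Nat.xor_left_comm, Nat.xor_assoc]⟩
    all_goals omega

end Cfsg.Lib.M23Rec
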