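import Cfsg.Agent.M23Rec.Model

/-!
The symmetry of the diagram lifts to an automorphism of the double cover exchanging the two classes of lifts of
transpositions.
-/

set_option autoImplicit false
set_option linter.unusedSectionVars false
set_option linter.style.haveILetI false
set_option maxRecDepth 20000

namespace Cfsg.Lib.M23Rec

open Subgroup Cfsg.Lib.ThreeTr Cfsg.Lib.CosetCert

attribute [local irreducible] FiTwenty.sig0 FiTwenty.sig1 FiTwenty.sig2 FiTwenty.sig3 FiTwenty.sig4 FiTwenty.sig5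
  FiTwenty.sig6 FiTwenty.sig7 FiTwenty.sig8 FiTwenty.sig9 FiTwenty.sig10 FiTwenty.subPts FiTwenty.subIdx
  FiTwenty.subTree1Mask FiTwenty.subTree2Mask

/-- The seven-letter word of order nine. -/
def coxW : List ℕ := FiTwenty.rpt 9 FiTwenty.coxBase

theorem cox_sym : FiTwenty.SylTwo.sameQ (coxW.map FiPres.symL) [10] = true := by decide +kernel

theorem cox_facts : (coxW.all fun l => decide (l < 9) && decide (FiPres.symL l < 9)) = true ∧ coxW.length = 63 ∧
    (coxW.map FiPres.symL).all (fun l => decide (l < 11)) = true := by decide +kernel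

theorem edge_syms : ∀ e : Fin 8, FiTwenty.pairWord (FiPres.symL ([0, 1, 2, 3, 4, 5, 3, 7].getD e.val 0))
    (FiPres.symL ([1, 2, 3, 4, 5, 6, 7, 8].getD e.val 0)) = FiTwenty.rpt 3 [FiPres.symL ([0, 1, 2, 3, 4, 5, 3, 7].getD e.val 0),
      FiPres.symL ([1, 2, 3, 4, 5, 6, 7, 8].getD e.val 0)] := by decide +kernel

theorem letter_P0 : FiTwenty.imZ 0 ∈ P0 := FiTypes.zero_perp

theorem imZ_mem_H {l : ℕ} (hl : l < 9) : FiTwenty.imZ l ∈ H23 :=
  lgp_mem _ ((show ∀ l < 9, l ∈ FiTwenty.lamH by decide) l hl)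

theorem braid_letters {x y : ℕ} (hx : x < 10) (hy : y < 10)
    (h : FiTwenty.pairWord x y = FiTwenty.rpt 3 [x, y]) : (FiTwenty.imZ x * FiTwenty.imZ y) ^ 3 = 1 := by
  have e := FiTwenty.good_pair hx hy
  rw [h, FiTwenty.wval_rpt, FiTwenty.wval_cons, FiTwenty.wval_cons, FiTwenty.wval_nil, mul_one] at e
  rw [FiTwenty.imZ_low hx, FiTwenty.imZ_low hy, e]

theorem adjacent_conj {a b : Fj} (ha : a * a = 1) (hb : b * b = 1) (h : (a * b) ^ 3 = 1) :
    (a * b) * a * (a * b)⁻¹ = b := by
  have h4 : (a * b * a) * (b * a * b) = 1 := by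
    rw [← h, pow_succ, pow_two]; simp only [mul_assoc]
  rw [mul_inv_rev, inv_eq_of_mul_eq_one_right ha, inv_eq_of_mul_eq_one_right hb]
  have hbr : a * b * a = b * a * b := by
    rw [eq_inv_of_mul_eq_one_left h4, mul_inv_rev, mul_inv_rev, inv_eq_of_mul_eq_one_right ha,
      inv_eq_of_mul_eq_one_right hb, mul_assoc]
  calc a * b * a * (b * a) = b * a * b * (b * a) := by rw [hbr]
    _ = b * a * (b * b) * a := by group
    _ = b := by rw [hb, mul_one, mul_assoc, ha, mul_one]

theorem letter_perp : ∀ l, l < 9 → FiTwenty.imZ l ∈ P0 := by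
  have step : ∀ {x y : ℕ}, x < 9 → y < 9 → FiTwenty.pairWord x y = FiTwenty.rpt 3 [x, y] → FiTwenty.imZ x ∈ P0 →
      FiTwenty.imZ y ∈ P0 := fun hx hy h hm => by
    rw [← adjacent_conj (FiTwenty.imZ_sq (by omega)) (FiTwenty.imZ_sq (by omega))
      (braid_letters (by omega) (by omega) h)]
    exact P0_conj (mul_mem (imZ_mem_H hx) (imZ_mem_H hy)) hm
  have h := FiTwenty.adj_pairs
  have p0 := letter_P0
  have p1 := step (by norm_num) (by norm_num) (h 0) p0
  have p2 := step (by norm_num) (by norm_num) (h 1) p1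
  have p3 := step (by norm_num) (by norm_num) (h 2) p2
  have p4 := step (by norm_num) (by norm_num) (h 3) p3
  have p5 := step (by norm_num) (by norm_num) (h 4) p4
  have p6 := step (by norm_num) (by norm_num) (h 5) p5
  have p7 := step (by norm_num) (by norm_num) (h 6) p3
  have p8 := step (by norm_num) (by norm_num) (h 7) p7
  intro l hl
  interval_cases l <;> assumption

theorem wval_sign (b : ℕ → Fj) (hb : ∀ l, Commute zz (b l)) : ∀ w : List ℕ,
    wval (fun l => zz * b l) w = zz ^ w.length * wval b w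
  | [] => by simp [wval]
  | l :: w => by
    rw [FiTwenty.wval_cons, FiTwenty.wval_cons, wval_sign b hb w, List.length_cons, pow_succ']
    calc zz * b l * (zz ^ w.length * wval b w) = zz * (b l * zz ^ w.length) * wval b w := by group
      _ = zz * (zz ^ w.length * b l) * wval b w := by rw [((hb l).symm.pow_right _).eq]
      _ = _ := by group

/-- The exchange of the two classes of lifts. -/
theorem swap : ∃ θ : H23 ≃* H23, (θ FiTwenty.zH : Fj) = zz ∧ ∀ x : H23, (x : Fj) ∈ P0 → zz * (θ x : Fj) ∈ P0 := by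
  haveI := finite_fj
  haveI := FiPres.finite_fi
  obtain ⟨θ, hθ⟩ := double_iso (FiPres.symAut.toMonoidHom.comp FiTwenty.down)
    (FiPres.symAut.surjective.comp FiTwenty.down_surjective) (fun x hx => by
      refine FiTwenty.center_eq.ge ?_
      rwa [MonoidHom.mem_ker, MonoidHom.comp_apply, MulEquiv.coe_toMonoidHom, map_eq_one_iff _ FiPres.symAut.injective]
        at hx) FiSixfold.double_perfect (by
      rw [show (FiPres.symAut.toMonoidHom.comp FiTwenty.down).ker = FiTwenty.down.ker from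
        Subgroup.ext fun x => by simp]
      exact FiTwenty.card_ker)
  have hk : ∀ x : H23, FiTwenty.down x = 1 → x = 1 ∨ (x : Fj) = zz := fun x hx => by
    rcases h23.solid.full.eq_one_or_self zz_mem (mem_H.1 x.2).symm fun e he =>
      congrArg Subtype.val (mem_center_iff.1 (FiTwenty.center_eq.ge (MonoidHom.mem_ker.2 hx)) ⟨e, P0_le he⟩) with h | h
    exacts [Or.inl (Subtype.ext h), Or.inr h]
  have hz : (θ FiTwenty.zH : Fj) = zz := (hk _ (by
    rw [hθ, MonoidHom.comp_apply, FiTwenty.down_z, map_one])).resolve_left fun h => FiTwenty.z_ne (by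
      have := θ.injective (h.trans (map_one θ).symm)
      exact congrArg Subtype.val this)
  let g : ℕ → H23 := fun l => if hl : l < 9 then ⟨FiTwenty.imZ l, imZ_mem_H hl⟩ else 1
  let a : ℕ → Fj := fun l => (θ (g l) : Fj)
  let b : ℕ → Fj := fun l => (g (FiPres.symL l) : Fj)
  have hgv : ∀ l, l < 9 → (g l : Fj) = FiTwenty.imZ l := fun l hl => by simp [g, hl]
  have hcases : ∀ l, l < 9 → a l = b l ∨ a l = zz * b l := by
    intro l hl
    have hs := (FiPres.symL_facts ⟨l, hl⟩).1
    have hdown : ∀ k, k < 9 → FiTwenty.down (g k) = FiPres.im k := fun k hk' => by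
      rw [← FiPres.im10_low hk']
      refine FiTwenty.down_eq ?_
      rw [hgv k hk']
      exact FiTwenty.agrees_gen ((show ∀ l < 9, l ∈ FiTwenty.lamH by decide) k hk')
    have h1 : FiTwenty.down (θ (g l) * (g (FiPres.symL l))⁻¹) = 1 := by
      rw [map_mul, map_inv, hθ, MonoidHom.comp_apply, hdown l hl, hdown _ hs,
        show FiPres.symAut.toMonoidHom (FiPres.im l) = FiPres.im (FiPres.symL l) from
          FiPres.toGrp_im FiPres.good_sym hl, mul_inv_cancel]
    rcases hk _ h1 with h | h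
    · exact Or.inl (congrArg Subtype.val (mul_inv_eq_one.1 h))
    · exact Or.inr (mul_inv_eq_iff_eq_mul.1 h)
  have hcz : ∀ l, Commute zz (b l) := fun l => (mem_H.1 (g _).2).symm
  have hb2 : ∀ l, l < 9 → b l * b l = 1 := fun l hl => by
    have := (FiPres.symL_facts ⟨l, hl⟩).1
    show (g _ : Fj) * (g _ : Fj) = 1
    rw [hgv _ this, FiTwenty.imZ_sq (by omega)]
  have hedge : ∀ e : Fin 8, (a ([0, 1, 2, 3, 4, 5, 3, 7].getD e.val 0) = zz * b ([0, 1, 2, 3, 4, 5, 3, 7].getD e.val 0) ↔
      a ([1, 2, 3, 4, 5, 6, 7, 8].getD e.val 0) = zz * b ([1, 2, 3, 4, 5, 6, 7, 8].getD e.val 0)) := by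
    intro e
    have hlt : [0, 1, 2, 3, 4, 5, 3, 7].getD e.val 0 < 9 ∧ [1, 2, 3, 4, 5, 6, 7, 8].getD e.val 0 < 9 :=
      (show ∀ e : Fin 8, [0, 1, 2, 3, 4, 5, 3, 7].getD e.val 0 < 9 ∧ [1, 2, 3, 4, 5, 6, 7, 8].getD e.val 0 < 9 by
        decide) e
    have hw := FiTwenty.adj_pairs e
    have hw' := edge_syms e
    generalize [0, 1, 2, 3, 4, 5, 3, 7].getD e.val 0 = i at hlt hw hw' ⊢
    generalize [1, 2, 3, 4, 5, 6, 7, 8].getD e.val 0 = j at hlt hw hw' ⊢
    have e1 : (a i * a j) ^ 3 = 1 := by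
      have hg : (g i * g j) ^ 3 = 1 := Subtype.ext (by
        rw [SubmonoidClass.coe_pow, coe_mul, hgv i hlt.1, hgv j hlt.2, braid_letters (by omega) (by omega) hw]
        rfl)
      have := congrArg (fun t : H23 => (θ t : Fj)) hg
      simp only [map_pow, map_mul, map_one, SubmonoidClass.coe_pow, coe_mul, coe_one] at this
      exact this
    have hsi := (FiPres.symL_facts ⟨i, hlt.1⟩).1
    have hsj := (FiPres.symL_facts ⟨j, hlt.2⟩).1
    have e2 : (b i * b j) ^ 3 = 1 := by
      show ((g _ : Fj) * (g _ : Fj)) ^ 3 = 1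
      rw [hgv _ hsi, hgv _ hsj, braid_letters (Nat.lt_succ_of_lt hsi) (Nat.lt_succ_of_lt hsj) hw']
    have hne : ∀ t : Fj, t ^ 3 = 1 → Commute zz t → (zz * t) ^ 3 ≠ 1 := fun t ht hc h => by
      rw [hc.mul_pow, ht, mul_one, pow_succ, pow_two, zz_sq, one_mul] at h
      exact FiTwenty.z_ne h
    have hcij := (hcz i).mul_right (hcz j)
    constructor <;> intro h
    · refine (hcases j hlt.2).resolve_left fun h' => hne _ e2 hcij ?_
      rw [← mul_assoc, ← h, ← h']; exact e1
    · refine (hcases i hlt.1).resolve_left fun h' => hne _ e2 hcij ?_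
      rw [← mul_assoc, (hcz i).eq, mul_assoc, ← h, ← h']; exact e1
  obtain ⟨hlow, hlen, hsym⟩ := cox_facts
  simp only [List.all_eq_true, Bool.and_eq_true, decide_eq_true_eq] at hlow
  have hcox : wval a coxW = 1 := by
    show wval (fun l => (H23.subtype.comp θ.toMonoidHom) (g l)) coxW = 1
    rw [← map_wval g (H23.subtype.comp θ.toMonoidHom), show wval g coxW = 1 from Subtype.ext ?_, map_one]
    rw [← Subgroup.coe_subtype, map_wval g H23.subtype, FiTwenty.wval_congr (g := FiTwenty.im) fun l hl => by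
      show (g l : Fj) = _
      rw [hgv l (hlow l hl).1, FiTwenty.imZ_low (by have := (hlow l hl).1; omega)]]
    exact FiTwenty.good_im _ (List.mem_append_right _ (List.mem_cons_of_mem _ List.mem_cons_self))
  have hb : wval b coxW = zz := by
    have h1 := (FiTwenty.SylTwo.sameQ_iff (u := coxW.map FiPres.symL) (w := [10])
      (fun l hl => decide_eq_true_eq.mp (List.all_eq_true.1 hsym l hl)) (by simp)).1 cox_sym
    rw [FiTwenty.wval_cons, FiTwenty.wval_nil, mul_one, wval, List.map_map] at h1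
    exact (congrArg List.prod (List.map_congr_left fun l hl => hgv _ (hlow l hl).2)).trans h1
  have h0 : a 0 = zz * b 0 := by
    refine (hcases 0 (by norm_num)).resolve_left fun h => FiTwenty.z_ne ?_
    have d := hcases
    have n0 : ¬ a 0 = zz * b 0 := fun e => FiTwenty.z_ne (mul_eq_right.1 ((e.symm.trans h)))
    have n1 := mt (hedge 0).2 n0
    have n2 := mt (hedge 1).2 n1
    have n3 := mt (hedge 2).2 n2
    have n4 := mt (hedge 3).2 n3
    have n5 := mt (hedge 4).2 n4
    have n7 := mt (hedge 6).2 n3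
    refine hb.symm.trans (Eq.trans ?_ hcox)
    refine FiTwenty.wval_congr fun l hl => ?_
    have hl' : l ∈ FiTwenty.coxBase := by
      obtain ⟨v, hv, hl⟩ := List.mem_flatten.1 hl
      rwa [List.eq_of_mem_replicate hv] at hl
    simp only [FiTwenty.coxBase, List.mem_cons, List.not_mem_nil, or_false] at hl'
    rcases hl' with rfl | rfl | rfl | rfl | rfl | rfl | rfl
    exacts [((d 0 (by norm_num)).resolve_right n0).symm, ((d 1 (by norm_num)).resolve_right n1).symm,
      ((d 2 (by norm_num)).resolve_right n2).symm, ((d 3 (by norm_num)).resolve_right n3).symm,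
      ((d 4 (by norm_num)).resolve_right n4).symm, ((d 5 (by norm_num)).resolve_right n5).symm,
      ((d 7 (by norm_num)).resolve_right n7).symm]
  refine ⟨θ, hz, fun x hx => ?_⟩
  obtain ⟨c, hc, hcx⟩ := perp_lists (l := [FiTwenty.imZ 0]) (l' := [(x : Fj)])
    ⟨List.nodup_singleton _, by simp [letter_P0.1], by simp⟩ ⟨List.nodup_singleton _, by simp [hx.1], by simp⟩
    (by simp [letter_P0]) (by simp [hx]) rfl (by simp)
  simp only [List.map_cons, List.map_nil, List.cons.injEq, and_true] at hcx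
  have he : x = ⟨c, hc⟩ * g 0 * (⟨c, hc⟩ : H23)⁻¹ := Subtype.ext (by
    rw [hcx, coe_mul, coe_mul, coe_inv, hgv 0 (by norm_num)])
  set γ : Fj := (θ (⟨c, hc⟩ : H23) : Fj)
  have hγ : γ ∈ H23 := (θ _).2
  rw [he, map_mul, map_mul, map_inv, coe_mul, coe_mul, coe_inv, show (θ (g 0) : Fj) = zz * b 0 from h0]
  rw [show zz * (γ * (zz * b 0) * γ⁻¹) = zz * (γ * zz) * b 0 * γ⁻¹ by group, (mem_H.1 hγ).eq,
    ← mul_assoc zz zz, zz_sq, one_mul]
  refine P0_conj hγ ?_
  show (g _ : Fj) ∈ P0
  rw [hgv _ (show FiPres.symL 0 < 9 by decide)]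
  exact letter_perp _ (show FiPres.symL 0 < 9 by decide)

end Cfsg.Lib.M23Rec
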