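import Cfsg.Agent.M23Rec.Pairs
import Cfsg.Agent.M23Rec.Swap

/-!
The conjugates of the involution in its centraliser other than itself are one of the two classes of lifts of
transpositions, and for a suitable identification the class of transpositions.
-/

set_option autoImplicit false
set_option linter.unusedSectionVars false
set_option linter.style.haveILetI false
set_option maxRecDepth 20000

namespace Cfsg.Lib.M23Rec

open Subgroup Cfsg.Lib.ThreeTr Cfsg.Lib.CosetCert
open Cfsg.Lib.FiTwenty.SylTwo (vv vv_xor vv_zero)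

attribute [local instance] Classical.propDecidable

universe u

variable {G : Type u} [Group G]

/-- The sets meeting the conjugates. -/
noncomputable def hit (d : G) (ι : H23 →* G) (k : Fin 5) : Bool :=
  decide (∃ m ∈ clsL k.val, IsConj d (av ι m))

theorem rep_mem : ∀ k : Fin 5, (clsL k.val).getD 0 0 ∈ clsL k.val := by
  intro k
  have : 0 < (clsL k.val).length := (show ∀ k : Fin 5, 0 < (clsL k.val).length by decide +kernel) k
  rw [List.getD_eq_getElem _ _ this]
  exact List.getElem_mem _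

theorem xor_self_left (u v : ℕ) : u ^^^ (u ^^^ v) = v := by rw [← Nat.xor_assoc, Nat.xor_self, Nat.zero_xor]

theorem shift_mem {m : ℕ} (hm : m ∈ clsL 0 ∨ m ∈ clsL 1) : 32 ^^^ m ∈ clsL 0 ∨ 32 ^^^ m ∈ clsL 1 := by
  rcases hm with h | h
  · exact Or.inr (List.mem_map.2 ⟨m, h, rfl⟩)
  · obtain ⟨x, hx, rfl⟩ := List.mem_map.1 h
    exact Or.inl (by rw [xor_self_left]; exact hx)

namespace Cen

variable {d : G} {ι : H23 →* G} (h : Cen d ι)
include h

theorem hit_spec {k : Fin 5} {m : ℕ} (hm : m ∈ clsL k.val) : m ∈ conjS d ι ↔ hit d ι k = true := by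
  rw [hit, decide_eq_true_eq]
  refine ⟨fun e => ⟨m, hm, (h.mem_conjS.1 e).2⟩, fun ⟨r, hr, hc⟩ => ?_⟩
  exact h.conj_cls k.2 hr hm (h.mem_conjS.2 ⟨(cls_lt k.2 hr).1, hc⟩)

theorem union_spec {m : ℕ} (hm : m < 2048) : (unionM (hit d ι)).testBit m = true ↔ m ∈ conjS d ι := by
  have e := List.all_eq_true.1 (union_mem (hit d ι)) m (List.mem_range.2 hm)
  rw [beq_iff_eq] at e
  rw [e, Bool.or_eq_true, beq_iff_eq, List.any_eq_true]
  constructor
  · rintro (rfl | ⟨k, -, hk⟩)
    · exact h.base_mem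
    · rw [Bool.and_eq_true] at hk
      exact (h.hit_spec ((mem_cls k.2).1 hk.2)).2 hk.1
  · intro hS
    refine or_iff_not_imp_left.2 fun h32 => ?_
    obtain ⟨k, hk, hmk, -⟩ := cls_cases hm (fun e => h.zero_not (e ▸ hS)) h32
    exact ⟨⟨k, hk⟩, List.mem_finRange _, Bool.and_eq_true_iff.2 ⟨(h.hit_spec (k := ⟨k, hk⟩) hmk).1 hS, (mem_cls hk).2 hmk⟩⟩

theorem count_eq {u : ℕ} (hu : u ∈ conjS d ι) : nVal (unionM (hit d ι)) u = nVal (unionM (hit d ι)) 32 := by
  obtain ⟨φ, hφ, rfl⟩ := h.fuse (h.mem_conjS.1 hu).1 (h.mem_conjS.1 hu).2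
  obtain ⟨g, hg⟩ := id hφ
  have key : ∀ w, w < 2048 → ∀ v, v ∈ (List.range 2048).filter (fun v => (unionM (hit d ι)).testBit v &&
      (unionM (hit d ι)).testBit (w ^^^ v)) ↔ v ∈ conjS d ι ∧ w ^^^ v ∈ conjS d ι := fun w hw v => by
    simp only [List.mem_filter, List.mem_range, Bool.and_eq_true]
    refine ⟨fun ⟨hv, a, b⟩ => ⟨(h.union_spec hv).1 a,
      (h.union_spec (Nat.xor_lt_two_pow (n := 11) hw hv)).1 b⟩, fun ⟨a, b⟩ => ?_⟩
    have hv := (h.mem_conjS.1 a).1
    exact ⟨hv, (h.union_spec hv).2 a, (h.union_spec (Nat.xor_lt_two_pow (n := 11) hw hv)).2 b⟩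
  unfold nVal
  rw [← List.toFinset_card_of_nodup ((List.nodup_range).filter _),
    ← List.toFinset_card_of_nodup ((List.nodup_range).filter _)]
  refine (Finset.card_bij (fun v _ => φ v) (fun v hv => ?_) (fun a ha b hb e => ?_) fun w hw => ?_).symm
  · rw [List.mem_toFinset, key _ (by norm_num)] at hv
    have hlt := (h.mem_conjS.1 hv.1).1
    rw [List.mem_toFinset, key _ (hg 32 (by norm_num)).1, ← h.aut_xor hφ (by norm_num) hlt, h.conj_img hφ hlt,
      h.conj_img hφ (Nat.xor_lt_two_pow (n := 11) (by norm_num) hlt)]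
    exact hv
  · rw [List.mem_toFinset, key _ (by norm_num)] at ha hb
    exact h.aut_inj hφ (h.mem_conjS.1 ha.1).1 (h.mem_conjS.1 hb.1).1 e
  · rw [List.mem_toFinset, key _ (hg 32 (by norm_num)).1] at hw
    obtain ⟨v, hv, rfl⟩ := h.aut_surj hφ (h.mem_conjS.1 hw.1).1
    refine ⟨v, ?_, rfl⟩
    rw [← h.aut_xor hφ (by norm_num) hv, h.conj_img hφ hv,
      h.conj_img hφ (Nat.xor_lt_two_pow (n := 11) (by norm_num) hv)] at hw
    rw [List.mem_toFinset, key _ (by norm_num)]
    exact hw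

theorem hit_cases : List.ofFn (hit d ι) ∈ survivors := by
  rcases combos (hit d ι) with e | ⟨k, hk, e⟩
  · exact e
  · exact absurd (h.count_eq ((h.hit_spec (rep_mem k)).2 hk)) e

/-- Not all vectors are conjugates. -/
theorem not_full : ¬ List.ofFn (hit d ι) = [true, true, true, true, true] := by
  intro e
  have hall : ∀ k, hit d ι k = true := fun k => by
    have h1 : hit d ι = ![true, true, true, true, true] := List.ofFn_injective (by rw [e]; rfl)
    rw [h1]
    exact (show ∀ k : Fin 5, ![true, true, true, true, true] k = true by decide) k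
  have hS : ∀ m, m < 2048 → m ≠ 0 → m ∈ conjS d ι := fun m hm h0 => by
    rcases eq_or_ne m 32 with rfl | h32
    · exact h.base_mem
    obtain ⟨k, hk, hmk, -⟩ := cls_cases hm h0 h32
    exact (h.hit_spec (k := ⟨k, hk⟩) hmk).2 (hall _)
  have hn : (conjS d ι).card = 2047 := by
    rw [show conjS d ι = (Finset.range 2048).erase 0 from Finset.ext fun m => by
      rw [Finset.mem_erase, Finset.mem_range]
      exact ⟨fun hm => ⟨fun e => h.zero_not (e ▸ hm), (h.mem_conjS.1 hm).1⟩, fun ⟨a, b⟩ => hS m b a⟩,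
      Finset.card_erase_of_mem (by simp), Finset.card_range]
  let Adj : ℕ → ℕ → Prop := fun u v => Om ι 0 u v ∨ Om ι 1 u v
  have hsz : ∀ k < 5, [22, 22, 231, 231, 1540].getD k 0 = 22 → k = 0 ∨ k = 1 := by decide
  have hsym : ∀ u v, Adj u v → Adj v u := by
    have key : ∀ k : Fin 5, k.val < 2 → ∀ u v, Om ι k.val u v → Adj v u := fun k hk2 u v huv => by
      obtain ⟨a, ha, -, hc, hfwd, -⟩ := h.rev k.2 (rep_mem k) ((h.hit_spec (rep_mem k)).2 (hall k))
      rcases hsz a ha (hc.symm.trans ((show ∀ k : Fin 5, k.val < 2 → [22, 22, 231, 231, 1540].getD k.val 0 = 22 by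
        decide) k hk2)) with rfl | rfl
      exacts [Or.inl (hfwd u v huv), Or.inr (hfwd u v huv)]
    rintro u v (huv | huv)
    exacts [key 0 (by decide) u v huv, key 1 (by decide) u v huv]
  have hadd : ∀ u v, Adj u v → Adj u (u ^^^ v) := by
    have key : ∀ k < 2, ∀ u v, Om ι k u v → Adj u (u ^^^ v) := fun k hk u v ⟨φ, hφ, hu, m, hm, hv⟩ => by
      have hm' : m ∈ clsL 0 ∨ m ∈ clsL 1 := by interval_cases k <;> [exact Or.inl hm; exact Or.inr hm]
      have hlt : m < 2048 := (cls_lt (by omega) hm).1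
      have e : φ (32 ^^^ m) = u ^^^ v := by rw [h.aut_xor hφ (by norm_num) hlt, hu, hv]
      rcases shift_mem hm' with h' | h'
      exacts [Or.inl ⟨φ, hφ, hu, _, h', e⟩, Or.inr ⟨φ, hφ, hu, _, h', e⟩]
    rintro u v (huv | huv)
    exacts [key 0 (by norm_num) u v huv, key 1 (by norm_num) u v huv]
  set P := (conjS d ι ×ˢ Finset.range 2048).filter fun p : ℕ × ℕ => Adj p.1 p.2 with hP
  have hmemS : ∀ u v, Adj u v → u ∈ conjS d ι ∧ v ∈ conjS d ι ∧ u ≠ v := by
    rintro u v (huv | huv)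
    exacts [h.om_mem (by norm_num) huv (rep_mem 0) ((h.hit_spec (rep_mem 0)).2 (hall 0)),
      h.om_mem (by norm_num) huv (rep_mem 1) ((h.hit_spec (rep_mem 1)).2 (hall 1))]
  have hcard : P.card = 2047 * 44 := by
    rw [← hn, ← smul_eq_mul, ← Finset.sum_const, hP, Finset.card_filter, Finset.sum_product]
    refine Finset.sum_congr rfl fun u hu => ?_
    rw [← Finset.card_filter, Finset.filter_or, Finset.card_union_of_disjoint, h.om_count (by norm_num) hu,
      h.om_count (by norm_num) hu]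
    · rfl
    · refine Finset.disjoint_left.2 fun v h0 h1 => ?_
      have := h.om_unique (by norm_num) (by norm_num) (Finset.mem_filter.1 h0).2 (Finset.mem_filter.1 h1).2
      norm_num at this
  have hρmem : ∀ p ∈ P, (p.2, p.1 ^^^ p.2) ∈ P := fun p hp => by
    simp only [hP, Finset.mem_filter, Finset.mem_product, Finset.mem_range] at hp ⊢
    have h2 := hadd _ _ (hsym _ _ hp.2)
    rw [Nat.xor_comm] at h2
    obtain ⟨a, b, -⟩ := hmemS _ _ h2
    exact ⟨⟨a, (h.mem_conjS.1 b).1⟩, h2⟩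
  let f : P → P := fun p => ⟨(p.1.2, p.1.1 ^^^ p.1.2), hρmem p.1 p.2⟩
  have hcyc : ∀ p, f (f (f p)) = p := fun p => Subtype.ext (by
    obtain ⟨⟨u, v⟩, _⟩ := p
    show (v ^^^ (u ^^^ v), (u ^^^ v) ^^^ (v ^^^ (u ^^^ v))) = (u, v)
    have e1 : v ^^^ (u ^^^ v) = u := by rw [Nat.xor_comm u v, xor_self_left]
    rw [e1, Nat.xor_comm (u ^^^ v) u, xor_self_left])
  let σ : Equiv.Perm P := ⟨f, fun p => f (f p), hcyc, hcyc⟩
  haveI : Fact (Nat.Prime 3) := ⟨Nat.prime_three⟩
  obtain ⟨⟨⟨u, v⟩, hp⟩, hfix⟩ := Equiv.Perm.exists_fixed_point_of_prime (p := 3) (n := 1) (σ := σ)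
    (by rw [Fintype.card_coe, hcard]; norm_num)
    (Equiv.ext fun p => by rw [pow_one, pow_succ, pow_two]; exact hcyc p)
  have : v = u := congrArg (fun p : P => p.1.1) hfix
  exact (hmemS u v (Finset.mem_filter.1 hp).2).2.2 this.symm

/-- The members, their translates and the pairs are not the conjugates. -/
theorem not_276 : ¬ List.ofFn (hit d ι) = [true, true, true, false, false] := by
  intro e
  have hhit : hit d ι = ![true, true, true, false, false] := List.ofFn_injective (by rw [e]; rfl)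
  have hO : ∀ m < 2048, O276.testBit m = true ↔ m ∈ conjS d ι := fun m hm => by
    rw [← h.union_spec hm, hhit]; rfl
  have h0 : ∀ k : Fin 5, k.val < 3 → ∀ m ∈ clsL k.val, m ∈ conjS d ι := fun k hk m hm =>
    (h.hit_spec hm).2 (by rw [hhit]; exact (show ∀ k : Fin 5, k.val < 3 →
      ![true, true, true, false, false] k = true by decide) k hk)
  obtain ⟨hbase, hsame⟩ := Bool.and_eq_true_iff.1 split_at_base
  have hbase' : ∀ m < 2048, (m ∈ clsL 0 ∨ m ∈ clsL 1) ↔ (m ∈ conjS d ι ∧ 32 ^^^ m ∈ conjS d ι) := fun m hm => by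
    have := List.all_eq_true.1 hbase m (List.mem_range.2 hm)
    rw [beq_iff_eq, Bool.eq_iff_iff, Bool.or_eq_true, Bool.and_eq_true, mem_cls (by norm_num), mem_cls (by norm_num),
      hO m hm, hO _ (Nat.xor_lt_two_pow (n := 11) (by norm_num) hm)] at this
    exact this
  -- a neighbour is seen in one of the two sets
  have hadj : ∀ u v, u ∈ conjS d ι → v ∈ conjS d ι → u ^^^ v ∈ conjS d ι →
      (Om ι 0 u v ∨ Om ι 1 u v) ∧ ∀ w, w ∈ conjS d ι → u ^^^ w ∈ conjS d ι →
        (sameB O276 u v w = true ↔ (Om ι 0 u v ↔ Om ι 0 u w)) := by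
    intro u v hu hv huv
    obtain ⟨φ, hφ, rfl⟩ := h.fuse (h.mem_conjS.1 hu).1 (h.mem_conjS.1 hu).2
    have place : ∀ w, w ∈ conjS d ι → φ 32 ^^^ w ∈ conjS d ι →
        ∃ m < 2048, φ m = w ∧ (m ∈ clsL 0 ∨ m ∈ clsL 1) ∧ (Om ι 0 (φ 32) w ↔ m ∈ clsL 0) := by
      intro w hw huw
      obtain ⟨m, hm, rfl⟩ := h.aut_surj hφ (h.mem_conjS.1 hw).1
      rw [← h.aut_xor hφ (by norm_num) hm, h.conj_img hφ (Nat.xor_lt_two_pow (n := 11) (by norm_num) hm)] at huw
      have hcl := (hbase' m hm).2 ⟨(h.conj_img hφ hm).1 hw, huw⟩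
      refine ⟨m, hm, rfl, hcl, fun h1 => hcl.resolve_right fun h2 => ?_, fun h1 => ⟨φ, hφ, rfl, m, h1, rfl⟩⟩
      have := h.om_unique (by norm_num) (by norm_num) h1 ⟨φ, hφ, rfl, m, h2, rfl⟩
      norm_num at this
    obtain ⟨m, hm, rfl, hmc, hmiff⟩ := place v hv huv
    refine ⟨hmc.imp (fun h1 => ⟨φ, hφ, rfl, m, h1, rfl⟩) fun h1 => ⟨φ, hφ, rfl, m, h1, rfl⟩, fun w hw huw => ?_⟩
    obtain ⟨n, hn, rfl, hnc, hniff⟩ := place w hw huw
    rw [hmiff, hniff]
    have hmn : m ^^^ n < 2048 := Nat.xor_lt_two_pow (n := 11) hm hn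
    have e1 : sameB O276 (φ 32) (φ m) (φ n) = sameB O276 32 m n := by
      obtain ⟨g, hg⟩ := id hφ
      rw [Bool.eq_iff_iff, sameB, sameB]
      simp only [Bool.or_eq_true, Bool.and_eq_true, beq_iff_eq, bne_iff_ne, ne_eq]
      rw [← h.aut_xor hφ hm hn, hO _ (hg _ hmn).1, hO _ hmn, h.conj_img hφ hmn]
      exact or_congr ⟨h.aut_inj hφ hm hn, fun e => e ▸ rfl⟩ (and_congr_right fun _ => not_congr
        ⟨h.aut_inj hφ hmn (by norm_num), fun e => e ▸ rfl⟩)
    rw [e1]
    have h2 := List.all_eq_true.1 (List.all_eq_true.1 hsame m (List.mem_append.2 hmc)) n (List.mem_append.2 hnc)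
    rw [beq_iff_eq] at h2
    rw [h2, beq_iff_eq, Bool.eq_iff_iff, mem_cls (by norm_num), mem_cls (by norm_num)]
  obtain ⟨a, ha, haS, hac, hafwd, habwd⟩ := h.rev (k := 0) (by norm_num) (rep_mem 0) (h0 0 (by decide) _ (rep_mem 0))
  obtain ⟨a', ha', -, hac', hafwd', habwd'⟩ := h.rev (k := 1) (by norm_num) (rep_mem 1) (h0 1 (by decide) _ (rep_mem 1))
  have hsz : ∀ k < 5, [22, 22, 231, 231, 1540].getD k 0 = 22 → k = 0 ∨ k = 1 := by decide
  have ha01 := hsz a ha hac.symm
  have ha01' := hsz a' ha' hac'.symm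
  -- the sides of the six
  have hsix : ∀ i : Fin 6, six.getD i.val 0 ∈ conjS d ι ∧ firstN (six.getD i.val 0) ∈ conjS d ι ∧
      six.getD i.val 0 ^^^ firstN (six.getD i.val 0) ∈ conjS d ι ∧ six.getD i.val 0 < 2048 := by
    intro i
    have hl : ∀ v ∈ six, v < 2048 := by decide
    have hb : ∀ v ∈ six, v ∈ conjS d ι := fun v hv => by
      have := List.all_eq_true.1 six_ok v hv
      simp only [Bool.and_eq_true] at this
      exact (hO v (hl v hv)).1 this.1.1.1
    have hi : six.getD i.val 0 ∈ six := by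
      rw [List.getD_eq_getElem _ _ (show i.val < six.length from i.2)]
      exact List.getElem_mem _
    have := List.all_eq_true.1 six_ok _ hi
    simp only [Bool.and_eq_true, List.contains_iff_mem] at this
    exact ⟨hb _ hi, hb _ this.1.1.2, (hO _ (Nat.xor_lt_two_pow (n := 11) (hl _ hi) (hl _ this.1.1.2))).1 this.2,
      hl _ hi⟩
  let b : Fin 6 → Bool := fun i => decide (Om ι 0 (six.getD i.val 0) (firstN (six.getD i.val 0)))
  have hside : ∀ i j : Fin 6, six.getD i.val 0 ^^^ six.getD j.val 0 ∈ conjS d ι →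
      sideB (b i) (six.getD i.val 0) (six.getD j.val 0) = decide (Om ι 0 (six.getD i.val 0) (six.getD j.val 0)) := by
    intro i j hij
    obtain ⟨h1, h2, h3, -⟩ := hsix i
    obtain ⟨-, hiff⟩ := hadj _ _ h1 h2 h3
    have := hiff _ (hsix j).1 hij
    unfold sideB
    split_ifs with hs
    · simp only [b, decide_eq_decide]
      exact this.1 hs
    · simp only [b]
      by_cases p : Om ι 0 (six.getD i.val 0) (firstN (six.getD i.val 0)) <;>
        by_cases q : Om ι 0 (six.getD i.val 0) (six.getD j.val 0) <;> simp only [p, q, decide_true, decide_false,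
          Bool.not_true, Bool.not_false]
      · exact absurd (this.2 (iff_of_true p q)) hs
      · exact absurd (this.2 (iff_of_false p q)) hs
  obtain ⟨i, j, hne, hbit, hcon⟩ := no_sides b (decide (a = 0))
  obtain ⟨hui, -, -, hil⟩ := hsix i
  obtain ⟨huj, -, -, hjl⟩ := hsix j
  have hij := (hO _ (Nat.xor_lt_two_pow (n := 11) hil hjl)).1 hbit
  have hji : six.getD j.val 0 ^^^ six.getD i.val 0 ∈ conjS d ι := by rwa [Nat.xor_comm]
  rw [hside j i hji, hside i j hij] at hcon
  apply hcon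
  rcases (hadj _ _ hui huj hij).1 with h1 | h1
  · have h2 := hafwd _ _ h1
    rw [decide_eq_true h1, Bool.true_beq, decide_eq_decide]
    refine ⟨fun h3 => h.om_unique ha (by norm_num) h2 h3, fun h3 => ?_⟩
    rwa [h3] at h2
  · have hn1 : ¬ Om ι 0 (six.getD i.val 0) (six.getD j.val 0) := fun h3 => by
      have := h.om_unique (by norm_num) (by norm_num) h1 h3
      norm_num at this
    have h2 := hafwd' _ _ h1
    rw [decide_eq_false hn1, Bool.false_beq, ← decide_not, decide_eq_decide]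
    constructor
    · intro h3 hA
      have h4 : a' = 0 := h.om_unique ha' (by norm_num) h2 h3
      rw [hA] at habwd
      have h5 := habwd _ _ h3
      exact hn1 h5
    · intro hA
      have ha1 : a = 1 := ha01.resolve_left hA
      rcases ha01' with rfl | rfl
      · exact h2
      · exfalso
        have h00 : Om ι 0 32 ((clsL 0).getD 0 0) := ⟨id, ⟨1, fun m hm => ⟨hm, by simp⟩⟩, rfl, _, rep_mem 0, rfl⟩
        have h6 := hafwd' _ _ (ha1 ▸ hafwd _ _ h00)
        have := h.om_unique (by norm_num) (by norm_num) h6 h00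
        norm_num at this

/-- Two possibilities remain. -/
theorem hit_two (hw : ∃ g : G, g * d * g⁻¹ ≠ d ∧ Commute (g * d * g⁻¹) d) :
    List.ofFn (hit d ι) = [true, false, false, false, false] ∨
      List.ofFn (hit d ι) = [false, true, false, false, false] := by
  have hs := h.hit_cases
  simp only [survivors, List.mem_cons, List.not_mem_nil, or_false] at hs
  rcases hs with e | e | e | e | e
  · exfalso
    obtain ⟨g, hne, hc⟩ := hw
    obtain ⟨x, hx⟩ := h.onto _ hc
    have hcj : IsConj d (ι x) := hx ▸ isConj_iff.2 ⟨g, rfl⟩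
    have hd2 : d * d = 1 := by
      rw [← h.base, ← map_mul, show FiTwenty.zH * FiTwenty.zH = 1 from Subtype.ext FiTwenty.z_sq, map_one]
    have hx2 : (x : Fj) * x = 1 := by
      have : x * x = 1 := h.inj (by
        rw [map_mul, map_one, hx, show g * d * g⁻¹ * (g * d * g⁻¹) = g * (d * d) * g⁻¹ by group, hd2, mul_one,
          mul_inv_cancel])
      exact congrArg Subtype.val this
    obtain ⟨l, hl, hlm, h1, h3, hform⟩ := invol_form x.2 hx2 (fun e' => h.base_ne (isConj_one_left.1 (by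
        have h9 : x = 1 := Subtype.ext e'
        rwa [h9, map_one] at hcj)))
      (fun e' => hne (by
        rw [← hx, show x = FiTwenty.zH from Subtype.ext e', h.base]))
    set js := List.range l.length
    have hjs : ∀ i ∈ js, i < 22 := fun i hi => by have := List.mem_range.1 hi; omega
    have hxlt : ∀ i < 22, xs.getD i 0 < 2048 := by decide +kernel
    have hC : CList D0 (js.map fun i => vv (xs.getD i 0)) := ⟨List.nodup_range.map_on fun p hp q hq e' =>
      xs_inj p (hjs p hp) q (hjs q hq) (FiTwenty.SylTwo.vv_inj (hxlt p (hjs p hp)) (hxlt q (hjs q hq)) e'),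
      fun y hy => by
        obtain ⟨i, hi, rfl⟩ := List.mem_map.1 hy
        exact x_mem (hjs i hi),
      fun y hy y' hy' => by
        obtain ⟨i, -, rfl⟩ := List.mem_map.1 hy
        obtain ⟨i', -, rfl⟩ := List.mem_map.1 hy'
        exact vv_comm _ _⟩
    obtain ⟨c, hc', hmap⟩ := perp_lists hl hC hlm (fun y hy => by
      obtain ⟨i, hi, rfl⟩ := List.mem_map.1 hy
      exact x_P0 (hjs i hi)) (by simp [js]) h3
    have hprod : ∀ is : List ℕ, (is.map fun i => vv (xs.getD i 0)).prod = vv ((is.map fun i => xs.getD i 0).foldr (· ^^^ ·) 0) := by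
      intro is
      induction is with
      | nil => simp [vv_zero]
      | cons i t ih => rw [List.map_cons, List.prod_cons, ih, List.map_cons, List.foldr_cons, vv_xor]
    obtain ⟨m, hm⟩ : ∃ m, c * (x : Fj) * c⁻¹ = vv m := by
      rcases hform with e' | e'
      · exact ⟨_, by rw [e', ← conj_list_prod, ← hmap, hprod]⟩
      · refine ⟨32 ^^^ (js.map fun i => xs.getD i 0).foldr (· ^^^ ·) 0, ?_⟩
        rw [vv_xor, vv_base, ← hprod, hmap, conj_list_prod, e']
        calc c * (zz * l.prod) * c⁻¹ = c * zz * l.prod * c⁻¹ := by group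
          _ = zz * c * l.prod * c⁻¹ := by rw [(mem_H.1 hc').eq]
          _ = _ := by group
    have hmS : m % 2048 ∈ conjS d ι := by
      refine h.mem_conjS.2 ⟨Nat.mod_lt _ (by norm_num), hcj.trans (isConj_iff.2 ⟨ι ⟨c, hc'⟩, ?_⟩)⟩
      rw [av, ← map_inv, ← map_mul, ← map_mul]
      refine congrArg ι (Subtype.ext ?_)
      show c * (x : Fj) * c⁻¹ = vv (m % 2048)
      rw [hm, FiTwenty.SylTwo.vv_mod]
    have h32 : m % 2048 ≠ 32 := fun e' => hne (by
      have h9 : c * (x : Fj) * c⁻¹ = zz := by rw [hm, ← FiTwenty.SylTwo.vv_mod, e', vv_base]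
      have h10 : (x : Fj) = zz := by
        rw [show (x : Fj) = c⁻¹ * (c * x * c⁻¹) * c by group, h9, mul_assoc, ← (mem_H.1 hc').eq, inv_mul_cancel_left]
      rw [← hx, show x = FiTwenty.zH from Subtype.ext h10, h.base])
    obtain ⟨k, hk, hmk, -⟩ := cls_cases (h.mem_conjS.1 hmS).1 (fun e' => h.zero_not (e' ▸ hmS)) h32
    have h1' := (h.hit_spec (k := ⟨k, hk⟩) hmk).1 hmS
    have h2 : hit d ι = ![false, false, false, false, false] := List.ofFn_injective (by rw [e]; rfl)
    rw [h2] at h1'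
    exact Bool.false_ne_true (((show ∀ k : Fin 5, ![false, false, false, false, false] k = false by decide) _).symm.trans h1')
  · exact Or.inl e
  · exact Or.inr e
  · exact absurd e h.not_276
  · exact absurd e h.not_full

end Cen

end Cfsg.Lib.M23Rec
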