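import Cfsg.Agent.M23Rec.Fusion

/-!
For a suitable identification of the centraliser with the model, the conjugates of the involution in it are itself and
the transpositions commuting with the distinguished one.
-/

set_option autoImplicit false
set_option linter.unusedSectionVars false
set_option linter.style.haveILetI false
set_option maxRecDepth 20000

namespace Cfsg.Lib.M23Rec

open Subgroup Cfsg.Lib.ThreeTr Cfsg.Lib.CosetCert
open Cfsg.Lib.FiTwenty.SylTwo (vv vv_xor vv_zero)

universe u

variable {G : Type u} [Group G]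

/-- The orientation in which the conjugates are the transpositions. -/
def Good (d : G) (ι : H23 →* G) : Prop :=
  Cen d ι ∧ ∀ x : H23, (x ≠ FiTwenty.zH ∧ IsConj d (ι x)) ↔ (x : Fj) ∈ P0

namespace Cen

variable {d : G} {ι : H23 →* G} (h : Cen d ι)
include h

theorem good_of_hit (e : List.ofFn (hit d ι) = [true, false, false, false, false]) : Good d ι := by
  have hhit : hit d ι = ![true, false, false, false, false] := List.ofFn_injective (by rw [e]; rfl)
  have h1 : (1 : ℕ) ∈ clsL 0 := by decide +kernel
  have hP1 : vv 1 ∈ P0 := x_P0 (i := 0) (by norm_num)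
  have h1S : IsConj d (av ι 1) := (h.mem_conjS.1 ((h.hit_spec (k := 0) h1).2 (by rw [hhit]; rfl))).2
  refine ⟨h, fun x => ⟨fun ⟨hxz, hx⟩ => ?_, fun hx => ?_⟩⟩
  · have hd2 : d * d = 1 := by
      rw [← h.base, ← map_mul, show FiTwenty.zH * FiTwenty.zH = 1 from Subtype.ext FiTwenty.z_sq, map_one]
    have hx2 : (x : Fj) * x = 1 := by
      have : x * x = 1 := h.inj (by
        obtain ⟨g, hg⟩ := isConj_iff.1 hx
        rw [map_mul, map_one, ← hg, show g * d * g⁻¹ * (g * d * g⁻¹) = g * (d * d) * g⁻¹ by group, hd2, mul_one,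
          mul_inv_cancel])
      exact congrArg Subtype.val this
    have hne1 : (x : Fj) ≠ 1 := fun e' => h.base_ne (isConj_one_left.1 (by
      have h9 : x = 1 := Subtype.ext e'
      rwa [h9, map_one] at hx))
    obtain ⟨l, hl, hlm, hl1, hl3, hform⟩ := invol_form x.2 hx2 hne1 fun e' => hxz (Subtype.ext e')
    by_contra hP
    -- a representative of the same shape
    have key : ∀ k : Fin 5, k ≠ 0 → [1, 1, 2, 2, 3].getD k.val 0 = l.length →
        (x : Fj) = (if k.val = 1 ∨ k.val = 3 then zz else 1) * l.prod → False := by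
      intro k hk0 hlen hx'
      have hmem := rep_mem k
      obtain ⟨l', hl', hlm', hlen', e'⟩ := cls_form k.2 hmem
      obtain ⟨c, hc, hmap⟩ := perp_lists hl hl' hlm hlm' (hlen.symm.trans hlen'.symm) hl3
      have hxm : ι ⟨c, hc⟩ * ι x * (ι ⟨c, hc⟩)⁻¹ = av ι ((clsL k.val).getD 0 0) := by
        rw [av, ← map_inv, ← map_mul, ← map_mul]
        refine congrArg ι (Subtype.ext ?_)
        show c * (x : Fj) * c⁻¹ = vv _
        rw [e', hx', hmap, conj_list_prod]
        split_ifs
        · calc c * (zz * l.prod) * c⁻¹ = c * zz * l.prod * c⁻¹ := by group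
            _ = zz * c * l.prod * c⁻¹ := by rw [(mem_H.1 hc).eq]
            _ = _ := by group
        · group
      have hS := h.mem_conjS.2 ⟨(cls_lt k.2 hmem).1, hx.trans (isConj_iff.2 ⟨_, hxm⟩)⟩
      have := (h.hit_spec hmem).1 hS
      rw [hhit] at this
      exact Bool.false_ne_true (((show ∀ k : Fin 5, k ≠ 0 → ![true, false, false, false, false] k = false by decide)
        k hk0).symm.trans this)
    obtain ⟨a, t, rfl⟩ := List.exists_cons_of_length_pos (l := l) (by omega)
    rcases hform with e' | e'
    · match t with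
      | [] => exact hP (by rw [e', List.prod_singleton]; exact hlm a (by simp))
      | [_] => exact key 2 (by decide) (by simp) (by rw [if_neg (by decide), one_mul]; exact e')
      | [_, _] => exact key 4 (by decide) (by simp) (by rw [if_neg (by decide), one_mul]; exact e')
      | _ :: _ :: _ :: _ => simp at hl3; omega
    · match t with
      | [] => exact key 1 (by decide) (by simp) (by rw [if_pos (by decide)]; exact e')
      | [_] => exact key 3 (by decide) (by simp) (by rw [if_pos (by decide)]; exact e')
      | [b, b'] =>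
        obtain ⟨s, hs, hs3, hsp⟩ := h23.four_to_three (hl.cons zz_mem hlm) (by simp)
        have hsP : ∀ y ∈ s, y ∈ P0 := by
          obtain ⟨p, q, r, rfl⟩ := List.length_eq_three.1 hs3
          have hn := hs.nodup
          simp only [List.nodup_cons, List.mem_cons, List.not_mem_nil, or_false, not_or] at hn
          have hzc : Commute zz [p, q, r].prod := by
            rw [hsp, List.prod_cons]
            exact (Commute.refl zz).mul_right (Commute.list_prod_right _ _ fun y hy => (hlm y hy).2.2)
          simp only [List.prod_cons, List.prod_nil, mul_one, ← mul_assoc] at hzc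
          obtain ⟨c1, c2, c3⟩ := (commute_triple_iff h23.cls.1 (hs.mem p (by simp)) (hs.mem q (by simp))
            (hs.mem r (by simp)) zz_mem hn.1.1 hn.1.2 hn.2.1 (hs.comm p (by simp) q (by simp))
            (hs.comm p (by simp) r (by simp)) (hs.comm q (by simp) r (by simp))).1 hzc
          intro y hy
          have hne : y ≠ zz := fun ey => by
            classical
            have hzs : zz ∈ [p, q, r] := ey ▸ hy
            -- a product of two members would equal one of three
            have hperm := List.perm_cons_erase hzs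
            have hp2 : ([p, q, r].erase zz).prod = [a, b, b'].prod := by
              have h5 : [p, q, r].prod = zz * ([p, q, r].erase zz).prod := by
                rw [← List.prod_cons]
                exact hperm.prod_eq' (List.Pairwise.imp_of_mem (fun {u v} hu hv _ => hs.comm u hu v hv) hs.nodup)
              rw [hsp, List.prod_cons] at h5
              exact (mul_left_cancel h5).symm
            have hlen2 : ([p, q, r].erase zz).length = 2 := by rw [List.length_erase_of_mem hzs]; rfl
            have := h23.length_unique (l := [p, q, r].erase zz) ⟨hs.nodup.erase zz,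
              fun u hu => hs.mem u (List.mem_of_mem_erase hu), fun u hu v hv => hs.comm u (List.mem_of_mem_erase hu) v
                (List.mem_of_mem_erase hv)⟩ hl (by omega) (by omega) hl1 hl3 hp2
            simp [hlen2] at this
          refine ⟨hs.mem y hy, hne, ?_⟩
          simp only [List.mem_cons, List.not_mem_nil, or_false] at hy
          rcases hy with rfl | rfl | rfl <;> assumption
        obtain ⟨u, v, w, rfl⟩ := List.length_eq_three.1 hs3
        obtain ⟨l', hl', hlm', hlen', e1⟩ := cls_form (k := 4) (by norm_num) (rep_mem 4)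
        obtain ⟨c, hc, hmap⟩ := perp_lists hs hl' hsP hlm' (by rw [hlen']; rfl) (by simp)
        have hxm : ι ⟨c, hc⟩ * ι x * (ι ⟨c, hc⟩)⁻¹ = av ι ((clsL 4).getD 0 0) := by
          rw [av, ← map_inv, ← map_mul, ← map_mul]
          refine congrArg ι (Subtype.ext ?_)
          show c * (x : Fj) * c⁻¹ = vv _
          rw [show vv ((clsL 4).getD 0 0) = _ from e1, if_neg (by decide), one_mul, hmap, conj_list_prod, hsp, e']
          simp only [List.prod_cons]
        have hS := h.mem_conjS.2 ⟨(cls_lt (k := 4) (by norm_num) (rep_mem 4)).1, hx.trans (isConj_iff.2 ⟨_, hxm⟩)⟩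
        have := (h.hit_spec (k := 4) (rep_mem 4)).1 hS
        rw [hhit] at this
        exact Bool.false_ne_true this
      | _ :: _ :: _ :: _ => simp at hl3; omega
  · refine ⟨fun e' => hx.2.1 (by rw [e']; rfl), ?_⟩
    obtain ⟨c, hc, hcx⟩ := perp_lists (l := [vv 1]) (l' := [(x : Fj)]) ⟨List.nodup_singleton _, by simp [hP1.1], by simp⟩
      ⟨List.nodup_singleton _, by simp [hx.1], by simp⟩ (by simpa using hP1) (by simpa using hx) rfl (by simp)
    simp only [List.map_cons, List.map_nil, List.cons.injEq, and_true] at hcx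
    refine h1S.trans (isConj_iff.2 ⟨ι ⟨c, hc⟩, ?_⟩)
    rw [av, ← map_inv, ← map_mul, ← map_mul]
    exact congrArg ι (Subtype.ext hcx.symm)

/-- The orientation exists. -/
theorem exists_good (hw : ∃ g : G, g * d * g⁻¹ ≠ d ∧ Commute (g * d * g⁻¹) d) : ∃ ι', Good d ι' := by
  rcases h.hit_two hw with e | e
  · exact ⟨ι, h.good_of_hit e⟩
  obtain ⟨θ, hz, hθ⟩ := swap
  have hzz : θ FiTwenty.zH = FiTwenty.zH := Subtype.ext hz
  have h' : Cen d (ι.comp θ.symm.toMonoidHom) := by
    refine ⟨h.inj.comp θ.symm.injective, ?_, fun g hg => ?_⟩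
    · show ι (θ.symm FiTwenty.zH) = d
      rw [show θ.symm FiTwenty.zH = FiTwenty.zH from θ.symm_apply_eq.2 hzz.symm, h.base]
    · obtain ⟨x, rfl⟩ := h.onto g hg
      exact ⟨θ x, show ι (θ.symm (θ x)) = ι x by rw [MulEquiv.symm_apply_apply]⟩
  have hhit : hit d ι = ![false, true, false, false, false] := List.ofFn_injective (by rw [e]; rfl)
  have h33 : (33 : ℕ) ∈ clsL 1 := by decide +kernel
  have h33S := (h.mem_conjS.1 ((h.hit_spec (k := 1) h33).2 (by rw [hhit]; rfl))).2
  set y : H23 := θ ⟨vv 33, vv_H 33⟩
  have hy : (y : Fj) ∈ P0 := by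
    have hP1 : vv 1 ∈ P0 := x_P0 (i := 0) (by norm_num)
    have h1 := hθ ⟨vv 1, vv_H 1⟩ hP1
    have : (⟨vv 33, vv_H 33⟩ : H23) = FiTwenty.zH * ⟨vv 1, vv_H 1⟩ := Subtype.ext (by
      show vv 33 = zz * vv 1
      rw [← vv_base, ← vv_xor]; rfl)
    show ((θ ⟨vv 33, vv_H 33⟩ : H23) : Fj) ∈ P0
    rw [this, map_mul, coe_mul, hz]
    exact h1
  have hyc : IsConj d ((ι.comp θ.symm.toMonoidHom) y) := by
    show IsConj d (ι (θ.symm y))
    rwa [MulEquiv.symm_apply_apply]
  rcases h'.hit_two hw with e' | e'
  · exact ⟨_, h'.good_of_hit e'⟩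
  exfalso
  have h1 : (1 : ℕ) ∈ clsL 0 := by decide +kernel
  obtain ⟨c, hc, hcy⟩ := perp_lists (l := [(y : Fj)]) (l' := [vv 1]) ⟨List.nodup_singleton _, by simp [hy.1], by simp⟩
    ⟨List.nodup_singleton _, fun x hx => by rw [List.mem_singleton.1 hx]; exact (show vv 1 ∈ P0 from x_P0 (i := 0) (by norm_num)).1, by simp⟩
    (by simpa using hy) (fun x hx => by rw [List.mem_singleton.1 hx]; exact x_P0 (i := 0) (by norm_num)) rfl (by simp)
  simp only [List.map_cons, List.map_nil, List.cons.injEq, and_true] at hcy
  have hS := h'.mem_conjS.2 ⟨show 1 < 2048 by norm_num, hyc.trans (isConj_iff.2 ⟨(ι.comp θ.symm.toMonoidHom) ⟨c, hc⟩, by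
    rw [av, ← map_inv, ← map_mul, ← map_mul]
    exact congrArg _ (Subtype.ext hcy.symm)⟩)⟩
  have := (h'.hit_spec (k := 0) h1).1 hS
  rw [show hit d (ι.comp θ.symm.toMonoidHom) = ![false, true, false, false, false] from
    List.ofFn_injective (by rw [e']; rfl)] at this
  exact Bool.false_ne_true this

end Cen

end Cfsg.Lib.M23Rec
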