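import Cfsg.Agent.M23Rec.Build
import Cfsg.Agent.M22Rec.Linked

/-!
The translates of the class of the model are components for commuting, and nobody outside one centralises the products
of the pairs of a commuting set in it; hence every member lies in the model, which is the whole group.
-/

set_option autoImplicit false
set_option linter.unusedSectionVars false
set_option linter.style.haveILetI false
set_option maxRecDepth 20000

namespace Cfsg.Lib.M23Rec

open Subgroup Cfsg.Lib.ThreeTr Cfsg.Lib.CosetCert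
open Cfsg.Lib.M22Rec (even_central odd_conj alt_mem pow_mem_pair)
open Cfsg.Lib.FiTwenty.SylTwo (vv vv_inj)

attribute [local instance] _root_.Classical.propDecidable

universe u

variable {G : Type u} [Group G]

/-- The products of the pairs. -/
def pairProds (S : Finset G) : Set G := {g | ∃ a ∈ S, ∃ b ∈ S, g = a * b}

/-- The model inside the group, containing the centraliser of `d`. -/
structure Mdl (d : G) (f : Fj →* G) : Prop where
  inj : Function.Injective f
  base : f zz = d
  cent : ∀ g, Commute g d → g ∈ f.range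
  near : ∀ y ∈ perp (conjugatesOf d) d, ∃ x ∈ D0, f x = y

theorem Good.exists_mdl [Finite G] {d : G} {ι : H23 →* G} (h : Good d ι) : ∃ f : Fj →* G, Mdl d f := by
  haveI := finite_fj
  obtain ⟨f, hf, hb, hc⟩ := h.exists_model
  have hsub : f '' P0 ⊆ perp (conjugatesOf d) d := by
    rintro _ ⟨x, hx, rfl⟩
    obtain ⟨g, hg⟩ := isConj_iff.1 (show IsConj zz x from hx.1)
    refine ⟨isConj_iff.2 ⟨f g, by rw [← hb, ← map_inv, ← map_mul, ← map_mul, hg]⟩,
      fun e => hx.2.1 (hf (e.trans hb.symm)), ?_⟩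
    rw [← hb]
    exact hx.2.2.map f
  have heq := Set.eq_of_subset_of_ncard_le hsub (by rw [h.card_perp, Set.ncard_image_of_injective _ hf, card_P0])
    (Set.toFinite _)
  refine ⟨f, hf, hb, hc, fun y hy => ?_⟩
  rw [← heq] at hy
  obtain ⟨x, hx, rfl⟩ := hy
  exact ⟨x, hx.1, rfl⟩

/-- The component. -/
noncomputable def kap (d : G) (f : Fj →* G) (a : G) : G ⧸ f.range :=
  if h : ∃ g, g * d * g⁻¹ = a then (h.choose : G ⧸ f.range) else ((1 : G) : G ⧸ f.range)

theorem clist_letters {n : ℕ} (hn : n ≤ 22) : CList D0 ((List.range n).map fun i => vv (xs.getD i 0)) := by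
  have hxlt : ∀ i < 22, xs.getD i 0 < 2048 := by decide +kernel
  have hlt : ∀ i ∈ List.range n, i < 22 := fun i hi => by have := List.mem_range.1 hi; omega
  refine ⟨List.nodup_range.map_on fun p hp q hq e => xs_inj p (hlt p hp) q (hlt q hq)
    (vv_inj (hxlt p (hlt p hp)) (hxlt q (hlt q hq)) e), fun y hy => ?_, fun y hy y' hy' => ?_⟩
  · obtain ⟨i, hi, rfl⟩ := List.mem_map.1 hy
    exact x_mem (hlt i hi)
  · obtain ⟨i, -, rfl⟩ := List.mem_map.1 hy
    obtain ⟨i', -, rfl⟩ := List.mem_map.1 hy'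
    exact vv_comm _ _

namespace Mdl

variable [Finite G] {d : G} {f : Fj →* G} (h : Mdl d f)
include h

theorem sq {a : G} (ha : a ∈ conjugatesOf d) : a * a = 1 := by
  obtain ⟨g, rfl⟩ := isConj_iff.1 (show IsConj d a from ha)
  rw [show g * d * g⁻¹ * (g * d * g⁻¹) = g * (d * d) * g⁻¹ by group, ← h.base, ← map_mul, zz_sq, map_one, mul_one,
    mul_inv_cancel]

theorem inv_eq {a : G} (ha : a ∈ conjugatesOf d) : a⁻¹ = a := inv_eq_of_mul_eq_one_right (h.sq ha)

omit h in
theorem conj_mem' (g : G) (a : G) (ha : a ∈ conjugatesOf d) : g * a * g⁻¹ ∈ conjugatesOf d :=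
  IsConj.trans ha (isConj_iff.2 ⟨g, rfl⟩)

theorem kap_conj (g : G) : kap d f (g * d * g⁻¹) = (g : G ⧸ f.range) := by
  have hex : ∃ g', g' * d * g'⁻¹ = g * d * g⁻¹ := ⟨g, rfl⟩
  rw [kap, dif_pos hex]
  refine QuotientGroup.eq.2 (h.cent _ ?_)
  show hex.choose⁻¹ * g * d = d * (hex.choose⁻¹ * g)
  have e := hex.choose_spec
  calc hex.choose⁻¹ * g * d = hex.choose⁻¹ * (g * d * g⁻¹) * g := by group
    _ = hex.choose⁻¹ * (hex.choose * d * hex.choose⁻¹) * g := by rw [e]
    _ = _ := by group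

theorem kap_smul (g : G) {a : G} (ha : a ∈ conjugatesOf d) : kap d f (g * a * g⁻¹) = g • kap d f a := by
  obtain ⟨k, rfl⟩ := isConj_iff.1 (show IsConj d a from ha)
  rw [show g * (k * d * k⁻¹) * g⁻¹ = g * k * d * (g * k)⁻¹ by group, h.kap_conj, h.kap_conj]
  rfl

theorem kap_base {x : Fj} (hx : x ∈ D0) : f x ∈ conjugatesOf d ∧ kap d f (f x) = ((1 : G) : G ⧸ f.range) := by
  obtain ⟨k, rfl⟩ := isConj_iff.1 (show IsConj zz x from hx)
  rw [map_mul, map_mul, map_inv, show f (FiTwenty.imZ 10) = d from h.base]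
  exact ⟨isConj_iff.2 ⟨f k, rfl⟩, (h.kap_conj _).trans (QuotientGroup.eq.2 (by simp))⟩

/-- The component of a member as an image of the model. -/
theorem frame {a : G} (ha : a ∈ conjugatesOf d) : ∃ F : Fj →* G, Function.Injective F ∧
    (∀ x ∈ D0, F x ∈ conjugatesOf d ∧ kap d f (F x) = kap d f a) ∧
      (∀ y ∈ conjugatesOf d, kap d f y = kap d f a → ∃ x ∈ D0, F x = y) ∧ ∀ g, Commute g a → g ∈ F.range := by
  obtain ⟨g, rfl⟩ := isConj_iff.1 (show IsConj d a from ha)
  refine ⟨(MulAut.conj g).toMonoidHom.comp f, (MulAut.conj g).injective.comp h.inj, fun x hx => ?_, fun y hy e => ?_,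
    fun k hk => ?_⟩
  · obtain ⟨h1, h2⟩ := h.kap_base hx
    refine ⟨conj_mem' g _ h1, ?_⟩
    show kap d f (g * f x * g⁻¹) = _
    rw [h.kap_smul g h1, h2, h.kap_conj]
    show ((g * 1 : G) : G ⧸ f.range) = _
    rw [mul_one]
  · obtain ⟨k, rfl⟩ := isConj_iff.1 (show IsConj d y from hy)
    rw [h.kap_conj, h.kap_conj] at e
    obtain ⟨c, hc⟩ := QuotientGroup.eq.1 e.symm
    refine ⟨c * zz * c⁻¹, isConj_iff.2 ⟨c, rfl⟩, ?_⟩
    show g * f (c * zz * c⁻¹) * g⁻¹ = _
    rw [map_mul, map_mul, map_inv, hc, h.base]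
    group
  · have := hk.map (MulAut.conj g⁻¹)
    simp only [MulAut.conj_apply, inv_inv] at this
    rw [show g⁻¹ * (g * d * g⁻¹) * g = d by group] at this
    obtain ⟨c, hc⟩ := h.cent _ this
    exact ⟨c, show g * f c * g⁻¹ = k by rw [hc]; group⟩

theorem same_of_commute {a b : G} (ha : a ∈ conjugatesOf d) (hb : b ∈ conjugatesOf d) (hc : Commute a b) :
    kap d f b = kap d f a := by
  rcases eq_or_ne b a with rfl | hne
  · rfl
  obtain ⟨g, rfl⟩ := isConj_iff.1 (show IsConj d a from ha)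
  have hp : g⁻¹ * b * g ∈ perp (conjugatesOf d) d := by
    refine ⟨by simpa using conj_mem' g⁻¹ b hb, fun e => hne ?_, ?_⟩
    · conv_rhs => rw [← e]
      group
    · have := hc.map (MulAut.conj g⁻¹)
      simp only [MulAut.conj_apply, inv_inv] at this
      rwa [show g⁻¹ * (g * d * g⁻¹) * g = d by group] at this
  obtain ⟨x, hx, e⟩ := h.near _ hp
  obtain ⟨h1, h2⟩ := h.kap_base hx
  rw [show b = g * f x * g⁻¹ by rw [e]; group, h.kap_smul g h1, h2, h.kap_conj]
  show ((g * 1 : G) : G ⧸ f.range) = _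
  rw [mul_one]

omit h in
theorem commute_iff {F : Fj →* G} (hF : Function.Injective F) {x y : Fj} : Commute (F x) (F y) ↔ Commute x y :=
  ⟨fun e => hF (by rw [map_mul, map_mul]; exact e.eq), fun e => e.map F⟩

theorem commute_of_pair {e p q : G} (he : e ∈ conjugatesOf d) (hp : p ∈ conjugatesOf d) (hq : q ∈ conjugatesOf d)
    (hl : kap d f e = kap d f p) (hne : p ≠ q) (hpq : Commute p q) (hc : Commute e (p * q)) :
    Commute e p ∧ Commute e q := by
  haveI := finite_fj
  obtain ⟨F, hF, -, hsurj, -⟩ := h.frame hp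
  obtain ⟨x, hx, rfl⟩ := hsurj p hp rfl
  obtain ⟨y, hy, rfl⟩ := hsurj q hq (h.same_of_commute hp hq hpq)
  obtain ⟨z, hz, rfl⟩ := hsurj e he hl
  rw [← map_mul] at hc
  rw [commute_iff hF] at hc hpq
  rw [commute_iff hF, commute_iff hF]
  exact (commute_pair_iff h23.cls.1 hx hy hz (fun e => hne (congrArg F e)) hpq).1 hc

theorem mul_not_mem {p q : G} (hp : p ∈ conjugatesOf d) (hq : q ∈ conjugatesOf d) (hne : p ≠ q)
    (hpq : Commute p q) : p * q ∉ conjugatesOf d := fun hm => by
  haveI := finite_fj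
  obtain ⟨F, hF, -, hsurj, -⟩ := h.frame hp
  obtain ⟨r, hr, er⟩ := hsurj _ hm (h.same_of_commute hp hm ((Commute.refl p).mul_right hpq))
  obtain ⟨x, hx, rfl⟩ := hsurj p hp rfl
  obtain ⟨y, hy, rfl⟩ := hsurj q hq (h.same_of_commute hp hq hpq)
  have := h23.length_unique (l := [x, y]) (l' := [r]) ⟨by simpa using fun e => hne (congrArg F e),
    by simp [hx, hy], fun a ha b hb => by
      simp only [List.mem_cons, List.not_mem_nil, or_false] at ha hb
      rcases ha with rfl | rfl <;> rcases hb with rfl | rfl <;>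
        first | exact Commute.refl _ | exact (commute_iff hF).1 hpq | exact (commute_iff hF).1 hpq.symm⟩
    ⟨List.nodup_singleton _, by simp [hr], by simp⟩ (by simp) (by simp) (by simp) (by simp)
    (hF (by simp [er]))
  simp at this

theorem pair_unique {p q p' q' : G} (hp : p ∈ conjugatesOf d) (hq : q ∈ conjugatesOf d) (hne : p ≠ q)
    (hpq : Commute p q) (hp' : p' ∈ conjugatesOf d) (hq' : q' ∈ conjugatesOf d) (hpq' : Commute p' q')
    (hl : kap d f p' = kap d f p) (he : p * q = p' * q') :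
    p' = p ∧ q' = q ∨ p' = q ∧ q' = p := by
  haveI := finite_fj
  have hc : Commute p' (p * q) := he ▸ (Commute.refl p').mul_right hpq'
  obtain ⟨c1, c2⟩ := h.commute_of_pair hp' hp hq hl hne hpq hc
  rcases eq_or_ne p' p with rfl | h1
  · exact Or.inl ⟨rfl, (mul_left_cancel he).symm⟩
  rcases eq_or_ne p' q with rfl | h2
  · rw [hpq.eq] at he
    exact Or.inr ⟨rfl, (mul_left_cancel he).symm⟩
  exfalso
  have hq'e : q' = p' * (p * q) := by rw [he, ← mul_assoc, h.sq hp', one_mul]
  obtain ⟨F, hF, -, hsurj, -⟩ := h.frame hp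
  obtain ⟨r, hr, er⟩ := hsurj q' hq' ((h.same_of_commute hp' hq' hpq').trans hl)
  obtain ⟨x, hx, rfl⟩ := hsurj p hp rfl
  obtain ⟨y, hy, rfl⟩ := hsurj q hq (h.same_of_commute hp hq hpq)
  obtain ⟨z, hz, rfl⟩ := hsurj p' hp' hl
  rw [commute_iff hF] at c1 c2 hpq
  have := h23.length_unique (l := [z, x, y]) (l' := [r])
    ⟨by simp only [List.nodup_cons, List.mem_cons, List.not_mem_nil, or_false, not_or, not_false_eq_true,
        List.nodup_nil, and_true]
        exact ⟨⟨fun e => h1 (congrArg F e), fun e => h2 (congrArg F e)⟩, fun e => hne (congrArg F e)⟩,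
      by simp [hx, hy, hz], fun a ha b hb => by
      simp only [List.mem_cons, List.not_mem_nil, or_false] at ha hb
      rcases ha with rfl | rfl | rfl <;> rcases hb with rfl | rfl | rfl <;>
        first | exact Commute.refl _ | assumption | exact hpq.symm | exact c1.symm | exact c2.symm⟩
    ⟨List.nodup_singleton _, by simp [hr], by simp⟩ (by simp) (by simp) (by simp) (by simp)
    (hF (by simp [er, hq'e]))
  simp at this

/-- A commuting set of up to three members of a component has a common neighbour. -/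
theorem extend {a : G} (ha : a ∈ conjugatesOf d) (S : Finset G) (h3 : S.card ≤ 3)
    (hl : ∀ s ∈ S, s ∈ conjugatesOf d ∧ kap d f s = kap d f a) (hc : ∀ s ∈ S, ∀ t ∈ S, Commute s t) :
    ∃ y, y ∈ conjugatesOf d ∧ kap d f y = kap d f a ∧ y ∉ S ∧ ∀ s ∈ S, Commute y s := by
  haveI := finite_fj
  obtain ⟨F, hF, himg, hsurj, -⟩ := h.frame ha
  have hpre : ∀ s, ∃ x, s ∈ S → x ∈ D0 ∧ F x = s := fun s => by
    by_cases hs : s ∈ S
    · obtain ⟨x, hx, e⟩ := hsurj s (hl s hs).1 (hl s hs).2
      exact ⟨x, fun _ => ⟨hx, e⟩⟩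
    · exact ⟨1, fun k => absurd k hs⟩
  choose pre hpre using hpre
  set l := S.toList.map pre with hldef
  have hmem : ∀ s ∈ S.toList, pre s ∈ D0 ∧ F (pre s) = s := fun s hs => hpre s (Finset.mem_toList.1 hs)
  have hL : CList D0 l := ⟨S.nodup_toList.map_on fun s hs t ht e => by
      rw [← (hmem s hs).2, ← (hmem t ht).2, e], fun x hx => by
      obtain ⟨s, hs, rfl⟩ := List.mem_map.1 hx
      exact (hmem s hs).1, fun x hx x' hx' => by
      obtain ⟨s, hs, rfl⟩ := List.mem_map.1 hx
      obtain ⟨t, ht, rfl⟩ := List.mem_map.1 hx'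
      rw [← commute_iff hF, (hmem s hs).2, (hmem t ht).2]
      exact hc s (Finset.mem_toList.1 hs) t (Finset.mem_toList.1 ht)⟩
  have hlen : l.length = S.card := by simp [hldef]
  obtain ⟨g, hg⟩ := listTrans4 _ _ (clist_letters (n := S.card) (by omega)) hL (by simp [hlen]) (by simp; omega)
  have hbig := (clist_letters (n := S.card + 1) (by omega)).map_conj h23.cls g
  rw [List.range_succ, List.map_append, List.map_append, ← hg, List.map_singleton, List.map_singleton] at hbig
  set x := g * vv (xs.getD S.card 0) * g⁻¹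
  have hx : x ∈ D0 := hbig.mem x (by simp)
  refine ⟨F x, (himg x hx).1, (himg x hx).2, fun e => ?_, fun s hs => ?_⟩
  · have hp : pre (F x) = x := hF ((hpre _ e).2)
    exact (List.nodup_append.1 hbig.nodup).2.2 x (List.mem_map.2 ⟨F x, Finset.mem_toList.2 e, hp⟩) x (by simp) rfl
  · rw [← (hpre s hs).2, commute_iff hF]
    exact hbig.comm x (by simp) _ (List.mem_append_left _ (List.mem_map_of_mem (Finset.mem_toList.2 hs)))

/-- A member of a maximal commuting set is a product of three pairs. -/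
theorem six_pairs {a : G} (ha : a ∈ conjugatesOf d) (S : Finset G)
    (hl : ∀ s ∈ S, s ∈ conjugatesOf d ∧ kap d f s = kap d f a) (hc : ∀ s ∈ S, ∀ t ∈ S, Commute s t)
    (hmax : ∀ y, y ∈ conjugatesOf d → kap d f y = kap d f a → (∀ s ∈ S, Commute y s) → y ∈ S) {x : G} (hx : x ∈ S)
    (e : G) (he : ∀ p ∈ pairProds S, Commute e p) : Commute e x := by
  haveI := finite_fj
  have h4 : 4 ≤ S.card := by
    by_contra hlt
    obtain ⟨y, hy, hyl, hyS, hyc⟩ := h.extend ha S (by omega) hl hc
    exact hyS (hmax y hy hyl hyc)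
  obtain ⟨T, hT, hT3⟩ := Finset.exists_subset_card_eq (s := S.erase x) (n := 3) (by
    rw [Finset.card_erase_of_mem hx]; omega)
  obtain ⟨p, q, r, hpq, hpr, hqr, rfl⟩ := Finset.card_eq_three.1 hT3
  have hTm : ∀ y ∈ ({p, q, r} : Finset G), y ≠ x ∧ y ∈ S := fun y hy => Finset.mem_erase.1 (hT hy)
  obtain ⟨hpx, hp⟩ := hTm p (by simp)
  obtain ⟨hqx, hq⟩ := hTm q (by simp)
  obtain ⟨hrx, hr⟩ := hTm r (by simp)
  obtain ⟨F, hF, himg, hsurj, -⟩ := h.frame ha
  have pre : ∀ s ∈ S, ∃ y ∈ D0, F y = s := fun s hs => hsurj s (hl s hs).1 (hl s hs).2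
  obtain ⟨x', hx', rfl⟩ := pre x hx
  obtain ⟨p', hp', rfl⟩ := pre p hp
  obtain ⟨q', hq', rfl⟩ := pre q hq
  obtain ⟨r', hr', rfl⟩ := pre r hr
  have hin : ∀ y ∈ [x', p', q', r'], F y ∈ S := fun y hy => by
    simp only [List.mem_cons, List.not_mem_nil, or_false] at hy
    rcases hy with rfl | rfl | rfl | rfl <;> assumption
  have hL : CList D0 [x', p', q', r'] := ⟨by
      simp only [List.nodup_cons, List.mem_cons, List.not_mem_nil, or_false, not_or, not_false_eq_true,
        List.nodup_nil, and_true]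
      exact ⟨⟨fun k => hpx (congrArg F k).symm, fun k => hqx (congrArg F k).symm, fun k => hrx (congrArg F k).symm⟩,
        ⟨fun k => hpq (congrArg F k), fun k => hpr (congrArg F k)⟩, fun k => hqr (congrArg F k)⟩,
      by simp [hx', hp', hq', hr'], fun y hy z hz => (commute_iff hF).1 (hc _ (hin y hy) _ (hin z hz))⟩
  obtain ⟨s, hs, hs3, hsp⟩ := h23.four_to_three hL rfl
  obtain ⟨u, v, w, rfl⟩ := List.length_eq_three.1 hs3
  have hn := hs.nodup
  simp only [List.nodup_cons, List.mem_cons, List.not_mem_nil, or_false, not_or] at hn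
  have hsS : ∀ y ∈ [u, v, w], F y ∈ S := fun y hy => by
    refine hmax _ (himg y (hs.mem y hy)).1 (himg y (hs.mem y hy)).2 fun t ht => ?_
    obtain ⟨t', ht', rfl⟩ := pre t ht
    rw [commute_iff hF]
    have h1 : Commute t' [u, v, w].prod := hsp ▸ Commute.list_prod_right _ _ fun z hz =>
      (commute_iff hF).1 (hc _ ht _ (hin z hz))
    simp only [List.prod_cons, List.prod_nil, mul_one, ← mul_assoc] at h1
    obtain ⟨c1, c2, c3⟩ := (commute_triple_iff h23.cls.1 (hs.mem u (by simp)) (hs.mem v (by simp))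
      (hs.mem w (by simp)) ht' hn.1.1 hn.1.2 hn.2.1 (hs.comm u (by simp) v (by simp))
      (hs.comm u (by simp) w (by simp)) (hs.comm v (by simp) w (by simp))).1 h1
    simp only [List.mem_cons, List.not_mem_nil, or_false] at hy
    rcases hy with rfl | rfl | rfl
    exacts [c1.symm, c2.symm, c3.symm]
  have hx6 : F x' = F u * F v * (F w * F r') * (F q' * F p') := by
    have h2 := congrArg F hsp
    simp only [List.prod_cons, List.prod_nil, mul_one, map_mul] at h2
    rw [show F u * F v * (F w * F r') * (F q' * F p') = F u * (F v * F w) * (F r' * (F q' * F p')) by group, h2]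
    have s2 : ∀ y ∈ [x', p', q', r'], F y * F y = 1 := fun y hy => h.sq (hl _ (hin y hy)).1
    calc F x' = F x' * (F p' * (F q' * (F r' * F r') * F q') * F p') := by
          rw [s2 r' (by simp), mul_one, s2 q' (by simp), mul_one, s2 p' (by simp), mul_one]
      _ = _ := by group
  rw [hx6]
  exact ((he _ ⟨_, hsS u (by simp), _, hsS v (by simp), rfl⟩).mul_right
    (he _ ⟨_, hsS w (by simp), _, hr, rfl⟩)).mul_right (he _ ⟨_, hq, _, hp, rfl⟩)

theorem no_outside {d0 e : G} (hd0 : d0 ∈ conjugatesOf d) (he : e ∈ conjugatesOf d) (S : Finset G)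
    (hl : ∀ s ∈ S, s ∈ conjugatesOf d ∧ kap d f s = kap d f d0) (hc : ∀ a ∈ S, ∀ b ∈ S, Commute a b)
    (htwo : ∃ a ∈ S, ∃ b ∈ S, a ≠ b) (hce : ∀ p ∈ pairProds S, Commute e p) : kap d f e = kap d f d0 := by
  haveI := Fintype.ofFinite G
  suffices H : ∀ n, ∀ S : Finset G, Fintype.card G - S.card ≤ n →
      (∀ s ∈ S, s ∈ conjugatesOf d ∧ kap d f s = kap d f d0) →
      (∀ a ∈ S, ∀ b ∈ S, Commute a b) → (∃ a ∈ S, ∃ b ∈ S, a ≠ b) →
      ∀ e ∈ conjugatesOf d, (∀ p ∈ pairProds S, Commute e p) → kap d f e = kap d f d0 from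
    H _ S le_rfl hl hc htwo e he hce
  intro n
  induction n using Nat.strong_induction_on with
  | _ n ih =>
  intro S hn hl hc htwo e he hce
  by_contra hout
  have hgrow : ∀ y, y ∈ conjugatesOf d → kap d f y = kap d f d0 → y ∉ S → (∀ a ∈ S, Commute y a) →
      ∀ e' ∈ conjugatesOf d, (∀ p ∈ pairProds (insert y S), Commute e' p) → kap d f e' = kap d f d0 := by
    intro y hy hly hyS hyc e' he'
    have hcard : (insert y S).card = S.card + 1 := Finset.card_insert_of_notMem hyS
    have hle := Finset.card_le_univ (insert y S)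
    refine ih _ (show Fintype.card G - (insert y S).card < n by omega) (insert y S) le_rfl ?_ ?_ ?_ e' he'
    · intro s hs
      rcases Finset.mem_insert.1 hs with rfl | hs
      exacts [⟨hy, hly⟩, hl s hs]
    · intro a ha b hb
      rcases Finset.mem_insert.1 ha with ea | ha <;> rcases Finset.mem_insert.1 hb with eb | hb
      · rw [ea, eb]
      · rw [ea]; exact hyc b hb
      · rw [eb]; exact (hyc a ha).symm
      · exact hc a ha b hb
    · obtain ⟨a, ha, b, hb, hab⟩ := htwo
      exact ⟨a, Finset.mem_insert_of_mem ha, b, Finset.mem_insert_of_mem hb, hab⟩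
  set M := centralizer (pairProds S) with hM
  have hMc : ∀ g, g ∈ M ↔ ∀ p ∈ pairProds S, Commute g p := fun g => by
    rw [hM, mem_centralizer_iff]
    exact ⟨fun h p hp => (h p hp).symm, fun h p hp => (h p hp).eq.symm⟩
  have heM : e ∈ M := (hMc e).2 hce
  have hSM : ∀ s ∈ S, s ∈ M := fun s hs => (hMc s).2 fun p ⟨a, ha, b, hb, e⟩ =>
    e ▸ (hc s hs a ha).mul_right (hc s hs b hb)
  have hSD : ∀ s ∈ S, s ∈ conjugatesOf d := fun s hs => (hl s hs).1
  have hother : ∀ a ∈ S, ∃ b ∈ S, a ≠ b := fun a _ => by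
    obtain ⟨p, hp, q, hq, hpq⟩ := htwo
    rcases eq_or_ne a p with rfl | h
    exacts [⟨q, hq, hpq⟩, ⟨p, hp, h⟩]
  have hcom : ∀ y ∈ conjugatesOf d, kap d f y = kap d f d0 → y ∈ M → ∀ a ∈ S, Commute y a :=
    fun y hyD hy hyM a ha => by
    obtain ⟨b, hb, hab⟩ := hother a ha
    exact (h.commute_of_pair hyD (hSD a ha) (hSD b hb) (hy.trans (hl a ha).2.symm) hab (hc a ha b hb)
      ((hMc y).1 hyM _ ⟨a, ha, b, hb, rfl⟩)).1
  -- pairs are kept
  have hperm : ∀ k ∈ M, ∀ a ∈ S, ∀ b ∈ S, a ≠ b → kap d f (k * a * k⁻¹) = kap d f d0 →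
      k * a * k⁻¹ = a ∨ k * a * k⁻¹ = b := by
    intro k hk a ha b hb hab hl'
    have hprod : a * b = (k * a * k⁻¹) * (k * b * k⁻¹) := by
      rw [show (k * a * k⁻¹) * (k * b * k⁻¹) = k * (a * b) * k⁻¹ by group,
        ((hMc k).1 hk _ ⟨a, ha, b, hb, rfl⟩).eq, mul_inv_cancel_right]
    rcases h.pair_unique (hSD a ha) (hSD b hb) hab (hc a ha b hb) (conj_mem' k a (hSD a ha))
      (conj_mem' k b (hSD b hb)) (by simpa using (hc a ha b hb).map (MulAut.conj k))
      (hl'.trans (hl a ha).2.symm) hprod with h | h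
    exacts [Or.inl h.1, Or.inr h.1]
  -- the set is not maximal
  obtain ⟨x, hxS, x', hx'S, hxx'⟩ := htwo
  obtain ⟨d1, hd1D, hd1l, hd1S, hd1c⟩ : ∃ y, y ∈ conjugatesOf d ∧ kap d f y = kap d f d0 ∧ y ∉ S ∧
      ∀ a ∈ S, Commute y a := by
    by_contra hmax
    push Not at hmax
    have hxe : Commute e x := h.six_pairs hd0 S hl hc (fun y hy hyl hyc => by
      by_contra hyS
      obtain ⟨a, ha, hna⟩ := hmax y hy hyl hyS
      exact hna (hyc a ha)) hxS e hce
    exact hout ((h.same_of_commute (hSD x hxS) he hxe.symm).trans (hl x hxS).2)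
  -- members outside come with a pair
  have hA : ∀ e' ∈ conjugatesOf d, kap d f e' ≠ kap d f d0 → e' ∈ M →
      (∃ h ∈ M, ∃ a ∈ S, h * a * h⁻¹ = e') ∨ ∃ y ∈ S, y ≠ x ∧ e' * (x * y) ∈ conjugatesOf d := by
    intro e' he' hout' he'M
    have hx := h.sq (hSD x hxS)
    have hee := h.sq he'
    by_cases hodd : Odd (orderOf (x * e'))
    · obtain ⟨g, hg, hge⟩ := odd_conj (hSM x hxS) he'M hx hee hodd
      exact Or.inl ⟨g, hg, x, hxS, hge⟩
    obtain ⟨m, -, hcx, hce', hii, hi1⟩ := even_central hx hee hodd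
    set i := (x * e') ^ m with hi
    have hyD : x * i ∈ conjugatesOf d := alt_mem conj_mem' hx hee (hSD x hxS) he' m
    have hyne : x * i ≠ x := fun h => hi1 (mul_eq_left.1 h)
    have hly : kap d f (x * i) = kap d f d0 :=
      (h.same_of_commute (hSD x hxS) hyD ((Commute.refl x).mul_right hcx)).trans (hl x hxS).2
    have hyM : x * i ∈ M := mul_mem (hSM x hxS) (pow_mem_pair (hSM x hxS) he'M m)
    have hxy : x * (x * i) = i := by rw [← mul_assoc, hx, one_mul]
    by_cases hyS : x * i ∈ S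
    · refine Or.inr ⟨_, hyS, hyne, ?_⟩
      rw [hxy]
      have h2 := alt_mem conj_mem' hx hee (hSD x hxS) he' (m + 1)
      rw [pow_succ', ← hi, ← mul_assoc, ← mul_assoc, hx, one_mul] at h2
      exact h2
    exfalso
    refine hout' (hgrow _ hyD hly hyS (hcom _ hyD hly hyM) e' he' ?_)
    have hone : ∀ a ∈ S, Commute e' (x * i * a) := fun a ha => by
      rw [show x * i * a = i * (x * a) by rw [hcx.eq, mul_assoc]]
      exact hce'.mul_right ((hMc e').1 he'M _ ⟨x, hxS, a, ha, rfl⟩)
    rintro p ⟨a, ha, b, hb, rfl⟩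
    rcases Finset.mem_insert.1 ha with ea | ha <;> rcases Finset.mem_insert.1 hb with eb | hb
    · rw [ea, eb, h.sq hyD]
      exact Commute.one_right _
    · rw [ea]; exact hone b hb
    · rw [eb, ← (hcom _ hyD hly hyM a ha).eq]; exact hone a ha
    · exact (hMc e').1 he'M _ ⟨a, ha, b, hb, rfl⟩
  -- the pair products keep the component
  have hB : ∀ g ∈ M, ∀ a ∈ S, kap d f (g * a * g⁻¹) = kap d f d0 := by
    intro g hg a ha
    have hd1M : d1 ∈ M := (hMc d1).2 fun p ⟨a, ha, b, hb, e⟩ => e ▸ (hd1c a ha).mul_right (hd1c b hb)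
    have hto : ∀ k : G, kap d f (k * d1 * k⁻¹) = kap d f d0 → kap d f (k * a * k⁻¹) = kap d f d0 := fun k hk => by
      rw [h.kap_smul k (hSD a ha), (hl a ha).2, ← hd1l, ← h.kap_smul k hd1D, hk, hd1l]
    by_cases hg1 : kap d f (g * d1 * g⁻¹) = kap d f d0
    · exact hto g hg1
    exfalso
    rcases hA _ (conj_mem' g d1 hd1D) hg1 (mul_mem (mul_mem hg hd1M) (inv_mem hg)) with
      ⟨h', hh, a', ha', hha⟩ | ⟨y, hy, hyx, hyD⟩
    · have hk : (g⁻¹ * h') * a' * (g⁻¹ * h')⁻¹ = d1 := by
        rw [show (g⁻¹ * h') * a' * (g⁻¹ * h')⁻¹ = g⁻¹ * (h' * a' * h'⁻¹) * g by group, hha]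
        group
      obtain ⟨b, hb, hab⟩ := hother a' ha'
      rcases hperm _ (mul_mem (inv_mem hg) hh) a' ha' b hb hab (by rw [hk]; exact hd1l) with h' | h' <;>
        rw [hk] at h' <;> exact hd1S (by rw [h']; assumption)
    · have hgxy : Commute g (x * y) := (hMc g).1 hg _ ⟨x, hxS, y, hy, rfl⟩
      have hz : d1 * (x * y) ∈ conjugatesOf d := by
        have h2 := conj_mem' g⁻¹ _ hyD
        rw [show g⁻¹ * (g * d1 * g⁻¹ * (x * y)) * g⁻¹⁻¹ = d1 * (g⁻¹ * ((x * y) * g)) by group,
          ← hgxy.eq, inv_mul_cancel_left] at h2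
        exact h2
      have hdc : Commute d1 (x * y) := (hd1c x hxS).mul_right (hd1c y hy)
      have he1 : d1 * (d1 * (x * y)) = x * y := by rw [← mul_assoc, h.sq hd1D, one_mul]
      rcases h.pair_unique (hSD x hxS) (hSD y hy) hyx.symm (hc x hxS y hy) hd1D hz
        ((Commute.refl d1).mul_right hdc) (hd1l.trans (hl x hxS).2.symm) he1.symm with h' | h' <;>
        exact hd1S (by rw [h'.1]; assumption)
  have hfix : ∀ a ∈ S, ∀ b ∈ S, a ≠ b → e * a * e⁻¹ = a ∨ e * a * e⁻¹ = b :=
    fun a ha b hb hab => hperm e heM a ha b hb hab (hB e heM a ha)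
  -- three members are fixed
  by_cases h3 : ∃ y ∈ S, y ≠ x ∧ y ≠ x'
  · obtain ⟨y, hy, hyx, hyx'⟩ := h3
    have : e * x * e⁻¹ = x := by
      rcases hfix x hxS x' hx'S hxx' with h' | h'
      · exact h'
      rcases hfix x hxS y hy hyx.symm with h'' | h''
      · exact h''
      · exact absurd (h''.symm.trans h') hyx'
    refine hout ((h.same_of_commute (hSD x hxS) he ?_).trans (hl x hxS).2)
    show x * e = e * x
    conv_lhs => rw [← this]
    rw [inv_mul_cancel_right]
  push Not at h3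
  -- two members
  have hcase : ∀ e' ∈ conjugatesOf d, kap d f e' ≠ kap d f d0 → e' ∈ M → e' * (x * x') ∈ conjugatesOf d := by
    intro e' he' hout' he'M
    rcases hA e' he' hout' he'M with ⟨g, hg, a, ha, hga⟩ | ⟨y, hy, hyx, hyD⟩
    · exact absurd (hga ▸ hB g hg a ha) hout'
    · rwa [h3 y hy hyx] at hyD
  have hv : Commute e (x * x') := hce _ ⟨x, hxS, x', hx'S, rfl⟩
  have he2 := hcase e he hout heM
  have hv1 : x * x' ≠ 1 := fun h' => hxx' (by rw [eq_inv_of_mul_eq_one_left h', h.inv_eq (hSD x' hx'S)])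
  have hne1 : e ≠ e * (x * x') := fun h' => hv1 (mul_eq_left.1 h'.symm)
  have hec : Commute e (e * (x * x')) := (Commute.refl e).mul_right hv
  obtain ⟨d2, hd2D, hd2l, hd2S, hd2c⟩ := h.extend he {e, e * (x * x')}
    (le_trans Finset.card_le_two (by norm_num)) (fun s hs => by
      simp only [Finset.mem_insert, Finset.mem_singleton] at hs
      rcases hs with rfl | rfl
      exacts [⟨he, rfl⟩, ⟨he2, h.same_of_commute he he2 hec⟩]) (fun s hs t ht => by
      simp only [Finset.mem_insert, Finset.mem_singleton] at hs ht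
      rcases hs with rfl | rfl <;> rcases ht with rfl | rfl
      exacts [Commute.refl _, hec, hec.symm, Commute.refl _])
  simp only [Finset.mem_insert, Finset.mem_singleton, not_or] at hd2S
  have hd2v : Commute d2 (x * x') := by
    have h1 := (hd2c e (by simp)).mul_right (hd2c (e * (x * x')) (by simp))
    rwa [← mul_assoc e e, h.sq he, one_mul] at h1
  have hd2M : d2 ∈ M := (hMc d2).2 fun p ⟨a, ha, b, hb, e'⟩ => by
    subst e'
    have hab : ∀ a ∈ S, a = x ∨ a = x' := fun a ha => (eq_or_ne a x).imp_right (h3 a ha)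
    rcases hab a ha with rfl | rfl <;> rcases hab b hb with rfl | rfl
    · rw [h.sq (hSD _ hxS)]; exact Commute.one_right _
    · exact hd2v
    · rw [(hc _ hx'S _ hxS).eq]; exact hd2v
    · rw [h.sq (hSD _ hx'S)]; exact Commute.one_right _
  have hz := hcase d2 hd2D (fun k => hout (hd2l.symm.trans k)) hd2M
  rcases h.pair_unique he he2 hne1 hec hd2D hz ((Commute.refl d2).mul_right hd2v) hd2l
    (by rw [← mul_assoc, h.sq he, one_mul, ← mul_assoc d2, h.sq hd2D, one_mul]) with k | k
  · exact hd2S.1 k.1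
  · exact hd2S.2 k.1

omit h in
theorem pair_set {p q e : G} (hp2 : p * p = 1) (hq2 : q * q = 1) (hc : Commute p q) (he : Commute e (p * q)) :
    ∀ r ∈ pairProds ({p, q} : Finset G), Commute e r := by
  rintro r ⟨a, ha, b, hb, rfl⟩
  simp only [Finset.mem_insert, Finset.mem_singleton] at ha hb
  rcases ha with ea | ea <;> rcases hb with eb | eb <;> rw [ea, eb]
  · rw [hp2]; exact Commute.one_right _
  · exact he
  · rw [← hc.eq]; exact he
  · rw [hq2]; exact Commute.one_right _

theorem outside_pair {p q e : G} (hp : p ∈ conjugatesOf d) (hq : q ∈ conjugatesOf d) (hne : p ≠ q)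
    (hc : Commute p q) (he : e ∈ conjugatesOf d) (hce : Commute e (p * q)) : kap d f e = kap d f p :=
  h.no_outside hp he {p, q} (fun s hs => by
      simp only [Finset.mem_insert, Finset.mem_singleton] at hs
      rcases hs with rfl | rfl
      exacts [⟨hp, rfl⟩, ⟨hq, h.same_of_commute hp hq hc⟩]) (fun a ha b hb => by
      simp only [Finset.mem_insert, Finset.mem_singleton] at ha hb
      rcases ha with rfl | rfl <;> rcases hb with rfl | rfl
      exacts [Commute.refl _, hc, hc.symm, Commute.refl _]) ⟨p, by simp, q, by simp, hne⟩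
    (pair_set (h.sq hp) (h.sq hq) hc hce)

theorem cross_odd {a e : G} (ha : a ∈ conjugatesOf d) (he : e ∈ conjugatesOf d) (hn : kap d f e ≠ kap d f a) :
    Odd (orderOf (a * e)) := by
  by_contra hodd
  obtain ⟨m, -, hca, hce, -, hi1⟩ := even_central (h.sq ha) (h.sq he) hodd
  set i := (a * e) ^ m
  have hy : a * i ∈ conjugatesOf d := alt_mem conj_mem' (h.sq ha) (h.sq he) ha he m
  refine hn (h.outside_pair ha hy (fun e' => hi1 (mul_eq_left.1 e'.symm)) ((Commute.refl a).mul_right hca) he ?_)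
  rwa [← mul_assoc, h.sq ha, one_mul]

theorem cent_pair {p q g : G} (hp : p ∈ conjugatesOf d) (hq : q ∈ conjugatesOf d) (hne : p ≠ q) (hc : Commute p q)
    (hg : Commute g (p * q)) : kap d f (g * p * g⁻¹) = kap d f p := by
  refine h.outside_pair hp hq hne hc (conj_mem' g p hp) ?_
  have := ((Commute.refl p).mul_right hc).map (MulAut.conj g)
  simp only [MulAut.conj_apply] at this
  rwa [hg.eq, mul_inv_cancel_right] at this

theorem cent_triple {p q r g : G} (hp : p ∈ conjugatesOf d) (hq : q ∈ conjugatesOf d) (hr : r ∈ conjugatesOf d)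
    (hpq : p ≠ q) (hpr : p ≠ r) (hqr : q ≠ r) (cpq : Commute p q) (cpr : Commute p r) (cqr : Commute q r)
    (hg : Commute g (p * (q * r))) : kap d f (g * p * g⁻¹) = kap d f p := by
  haveI := finite_fj
  by_contra hout
  have hsame : ∀ s ∈ ({p, q, r} : Finset G), s ∈ conjugatesOf d ∧ kap d f s = kap d f p := fun s hs => by
    simp only [Finset.mem_insert, Finset.mem_singleton] at hs
    rcases hs with rfl | rfl | rfl
    exacts [⟨hp, rfl⟩, ⟨hq, h.same_of_commute hp hq cpq⟩, ⟨hr, h.same_of_commute hp hr cpr⟩]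
  obtain ⟨d', hd', hd'l, hd'S, hd'c⟩ := h.extend hp {p, q, r} Finset.card_le_three hsame (fun s hs t ht => by
    simp only [Finset.mem_insert, Finset.mem_singleton] at hs ht
    rcases hs with rfl | rfl | rfl <;> rcases ht with rfl | rfl | rfl <;>
      first | exact Commute.refl _ | assumption | exact cpq.symm | exact cpr.symm | exact cqr.symm)
  simp only [Finset.mem_insert, Finset.mem_singleton, not_or] at hd'S
  set w := p * (q * r) with hw
  set M := centralizer ({w} : Set G) with hM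
  have hMc : ∀ g, Commute g w → g ∈ M := fun g h => mem_centralizer_singleton_iff.2 h.eq
  have hd'M : d' ∈ M :=
    hMc _ ((hd'c p (by simp)).mul_right ((hd'c q (by simp)).mul_right (hd'c r (by simp))))
  set e := g * p * g⁻¹ with he
  have heD : e ∈ conjugatesOf d := conj_mem' g p hp
  have heM : e ∈ M := hMc _ (by
    have := ((Commute.refl p).mul_right (cpq.mul_right cpr)).map (MulAut.conj g)
    simp only [MulAut.conj_apply] at this
    rwa [hg.eq, mul_inv_cancel_right] at this)
  obtain ⟨k0, hk0, hke⟩ := odd_conj hd'M heM (h.sq hd') (h.sq heD)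
    (h.cross_odd hd' heD fun k => hout (k.trans hd'l))
  set k := k0⁻¹ * g with hk
  have hkp : k * p * k⁻¹ = d' := by
    rw [hk, show k0⁻¹ * g * p * (k0⁻¹ * g)⁻¹ = k0⁻¹ * e * k0 by rw [he]; group, ← hke]
    group
  have hkw : k * w * k⁻¹ = w := by
    have h1 : k ∈ M := mul_mem (inv_mem hk0) (hMc g hg)
    rw [mem_centralizer_singleton_iff.1 h1, mul_inv_cancel_right]
  have hP : d' * w = k * q * k⁻¹ * (k * r * k⁻¹) := by
    conv_lhs => rw [← hkw, ← hkp]
    rw [hw, show k * p * k⁻¹ * (k * (p * (q * r)) * k⁻¹) = k * (p * p) * (q * r) * k⁻¹ by group, h.sq hp]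
    group
  obtain ⟨F, hF, -, hsurj, -⟩ := h.frame hp
  have himage : ∀ s ∈ conjugatesOf d, Commute p s → ∃ y ∈ D0, F y = k * s * k⁻¹ := fun s hs hc => by
    refine hsurj _ (conj_mem' k s hs) ?_
    rw [h.kap_smul k hs, h.same_of_commute hp hs hc, ← h.kap_smul k hp, hkp, hd'l]
  obtain ⟨q1, hq1, eq1⟩ := himage q hq cpq
  obtain ⟨r1, hr1, er1⟩ := himage r hr cpr
  obtain ⟨x', hx', ex⟩ := hsurj d' hd' hd'l
  obtain ⟨p', hp', ep⟩ := hsurj p hp rfl
  obtain ⟨q', hq', eq⟩ := hsurj q hq (h.same_of_commute hp hq cpq)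
  obtain ⟨r', hr', er⟩ := hsurj r hr (h.same_of_commute hp hr cpr)
  have hL : CList D0 [x', p', q', r'] := ⟨by
      simp only [List.nodup_cons, List.mem_cons, List.not_mem_nil, or_false, not_or, not_false_eq_true,
        List.nodup_nil, and_true]
      refine ⟨⟨?_, ?_, ?_⟩, ⟨?_, ?_⟩, ?_⟩ <;> intro e' <;> replace e' := congrArg F e' <;>
        simp only [ex, ep, eq, er] at e' <;>
        first | exact hd'S.1 e' | exact hd'S.2.1 e' | exact hd'S.2.2 e' | exact hpq e' | exact hpr e' | exact hqr e',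
      by simp [hx', hp', hq', hr'], fun y hy z hz => by
        rw [← commute_iff hF]
        simp only [List.mem_cons, List.not_mem_nil, or_false] at hy hz
        rcases hy with rfl | rfl | rfl | rfl <;> rcases hz with rfl | rfl | rfl | rfl <;>
          first
            | exact Commute.refl _
            | (rw [ex, ep]; exact hd'c p (by simp)) | (rw [ex, eq]; exact hd'c q (by simp))
            | (rw [ex, er]; exact hd'c r (by simp)) | (rw [ex, ep]; exact (hd'c p (by simp)).symm)
            | (rw [ex, eq]; exact (hd'c q (by simp)).symm) | (rw [ex, er]; exact (hd'c r (by simp)).symm)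
            | (rw [ep, eq]; first | exact cpq | exact cpq.symm) | (rw [ep, er]; first | exact cpr | exact cpr.symm)
            | (rw [eq, er]; first | exact cqr | exact cqr.symm)⟩
  obtain ⟨s, hs, hs3, hsp⟩ := h23.four_to_three hL rfl
  have hne : q1 ≠ r1 := fun e' => hqr (by
    have := congrArg F e'
    rw [eq1, er1] at this
    exact mul_left_cancel (mul_right_cancel this))
  have hc1 : Commute q1 r1 := by
    rw [← commute_iff hF, eq1, er1]
    simpa using cqr.map (MulAut.conj k)
  have := h23.length_unique hs (l' := [q1, r1]) ⟨by simpa using hne, by simp [hq1, hr1], fun a ha b hb => by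
      simp only [List.mem_cons, List.not_mem_nil, or_false] at ha hb
      rcases ha with rfl | rfl <;> rcases hb with rfl | rfl
      exacts [Commute.refl _, hc1, hc1.symm, Commute.refl _]⟩ (by omega) (by omega) (by simp) (by simp)
    (hsp.trans (hF (by simp [ex, ep, eq, er, eq1, er1, ← hP, hw])))
  simp [hs3] at this

theorem cent_invol {x w g : G} (hx : x ∈ conjugatesOf d) (hw : Commute x w) (hw2 : w * w = 1) (hw1 : w ≠ 1)
    (hg : Commute g w) : kap d f (g * x * g⁻¹) = kap d f x := by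
  haveI := finite_fj
  obtain ⟨F, hF, himg, -, hcent⟩ := h.frame hx
  obtain ⟨w0, rfl⟩ := hcent w hw.symm
  obtain ⟨l, hl, h1, h3, hlp⟩ := h23.invForm w0 (orderOf_eq_prime (p := 2)
    (hF (by rw [map_pow, map_one, pow_two, hw2])) fun e => hw1 (by rw [e, map_one]))
  subst hlp
  have hm := fun y (hy : y ∈ l) => himg y (hl.mem y hy)
  suffices H : ∀ y ∈ l, kap d f (g * F y * g⁻¹) = kap d f (F y) → kap d f (g * x * g⁻¹) = kap d f x by
    obtain ⟨a, t, rfl⟩ := List.exists_cons_of_length_pos (l := l) (by omega)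
    refine H a (by simp) ?_
    have hc : ∀ y ∈ (a :: t), ∀ z ∈ (a :: t), Commute (F y) (F z) := fun y hy z hz => (hl.comm y hy z hz).map F
    have hn := hl.nodup
    match t with
    | [] =>
      simp only [List.prod_cons, List.prod_nil, mul_one] at hg
      rw [hg.eq, mul_inv_cancel_right]
    | [b] =>
      simp only [List.prod_cons, List.prod_nil, mul_one, map_mul] at hg
      simp only [List.nodup_cons, List.mem_cons, List.not_mem_nil, or_false] at hn
      exact h.cent_pair (hm a (by simp)).1 (hm b (by simp)).1 (fun e => hn.1 (hF e)) (hc a (by simp) b (by simp)) hg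
    | [b, c] =>
      simp only [List.prod_cons, List.prod_nil, mul_one, map_mul] at hg
      simp only [List.nodup_cons, List.mem_cons, List.not_mem_nil, or_false, not_or] at hn
      exact h.cent_triple (hm a (by simp)).1 (hm b (by simp)).1 (hm c (by simp)).1 (fun e => hn.1.1 (hF e))
        (fun e => hn.1.2 (hF e)) (fun e => hn.2.1 (hF e)) (hc a (by simp) b (by simp)) (hc a (by simp) c (by simp))
        (hc b (by simp) c (by simp)) hg
    | _ :: _ :: _ :: _ => simp at h3; omega
  intro y hy e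
  rw [h.kap_smul g hx, ← (hm y hy).2, ← h.kap_smul g (hm y hy).1, e]

/-- A product of two commuting members keeps every component. -/
theorem pair_keeps {a p q : G} (ha : a ∈ conjugatesOf d) (hp : p ∈ conjugatesOf d) (hq : q ∈ conjugatesOf d)
    (hne : p ≠ q) (hc : Commute p q) : kap d f (p * q * a * (p * q)⁻¹) = kap d f a := by
  have h2 : p * q * (p * q) = 1 := by
    rw [hc.symm.mul_mul_mul_comm, h.sq hp, h.sq hq, one_mul]
  by_cases hodd : Odd (orderOf (a * (p * q)))
  · obtain ⟨g, -, hg⟩ := odd_conj (M := ⊤) (mem_top a) (mem_top (p * q)) (h.sq ha) h2 hodd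
    exact absurd (hg ▸ conj_mem' g a ha) (h.mul_not_mem hp hq hne hc)
  obtain ⟨m, -, hca, hcu, hii, hi1⟩ := even_central (h.sq ha) h2 hodd
  exact h.cent_invol ha hca hii hi1 hcu

/-- The model is everything. -/
theorem surjective : Function.Surjective f := by
  haveI := finite_fj
  have hd : d ∈ conjugatesOf d := mem_conjugatesOf_self
  have hfix : ∀ a ∈ conjugatesOf d, kap d f (d * a * d⁻¹) = kap d f a := by
    intro a ha
    obtain ⟨bs, hnd, hlen, hmem, hcomm, hprod⟩ := h23.six zz zz_mem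
    have hpair : ∀ p ∈ bs, ∀ q ∈ bs, p ≠ q → (f p * f q) • kap d f a = kap d f a := fun p hp q hq hne => by
      rw [← h.kap_smul _ ha]
      exact h.pair_keeps ha (h.kap_base (hmem p hp).1).1 (h.kap_base (hmem q hq).1).1 (fun e => hne (h.inj e))
        ((hcomm p hp q hq).map f)
    rw [h.kap_smul _ ha]
    match bs, hlen with
    | [b1, b2, b3, b4, b5, b6], _ =>
      simp only [List.nodup_cons, List.mem_cons, List.not_mem_nil, or_false, not_or] at hnd
      have e6 : d = (f b1 * f b2) * ((f b3 * f b4) * (f b5 * f b6)) := by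
        conv_lhs => rw [← h.base, ← hprod]
        simp only [List.prod_cons, List.prod_nil, mul_one, map_mul, mul_assoc]
      refine (congrArg (· • kap d f a) e6).trans ?_
      show ((f b1 * f b2) * ((f b3 * f b4) * (f b5 * f b6))) • kap d f a = _
      rw [mul_smul (f b1 * f b2), mul_smul (f b3 * f b4), hpair b5 (by simp) b6 (by simp) hnd.2.2.2.2.1,
        hpair b3 (by simp) b4 (by simp) hnd.2.2.1.1, hpair b1 (by simp) b2 (by simp) hnd.1.1]
  intro g
  show g ∈ f.range
  -- the conjugate by `g` fixes the base component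
  set b := g * d * g⁻¹ with hb
  have hbD : b ∈ conjugatesOf d := conj_mem' g d hd
  have hk : kap d f (g⁻¹ * d * g) = ((g⁻¹ : G) : G ⧸ f.range) := by
    simpa using h.kap_conj g⁻¹
  have hbr : b ∈ f.range := by
    have h1 := hfix (g⁻¹ * d * g) (by simpa using conj_mem' g⁻¹ d hd)
    rw [h.kap_smul _ (by simpa using conj_mem' g⁻¹ d hd), hk] at h1
    have h2 : g⁻¹⁻¹ * (d⁻¹ * g⁻¹) ∈ f.range := by
      have := QuotientGroup.eq.1 (show ((g⁻¹ : G) : G ⧸ f.range) = ((d * g⁻¹ : G) : G ⧸ f.range) from h1.symm)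
      rw [show g⁻¹⁻¹ * (d⁻¹ * g⁻¹) = (g⁻¹⁻¹ * (d * g⁻¹)) ⁻¹ by group]
      exact inv_mem this
    rwa [inv_inv, h.inv_eq hd, ← mul_assoc] at h2
  obtain ⟨b0, hb0⟩ := hbr
  obtain ⟨l, hl, h1, -, hlp⟩ := h23.invForm b0 (orderOf_eq_prime (p := 2)
    (h.inj (by rw [map_pow, map_one, pow_two, hb0, h.sq hbD])) fun e => by
      rw [e, map_one] at hb0
      have h0 : d = 1 := by
        calc d = g⁻¹ * b * g := by rw [hb]; group
          _ = 1 := by rw [← hb0]; group
      have : zz = 1 := h.inj (by rw [h.base, h0, map_one])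
      exact FiTwenty.z_ne this)
  obtain ⟨a, t, rfl⟩ := List.exists_cons_of_length_pos (l := l) (by omega)
  obtain ⟨haD, hak⟩ := h.kap_base (hl.mem a (by simp))
  have hc : Commute (f a) b := by
    rw [← hb0, ← hlp]
    exact (Commute.list_prod_right _ _ fun y hy => hl.comm a (by simp) y hy).map f
  have := h.same_of_commute haD hbD hc
  rw [hak, hb, h.kap_conj] at this
  simpa using QuotientGroup.eq.1 this.symm

end Mdl

end Cfsg.Lib.M23Rec
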