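import Cfsg.Agent.M23Rec.Cen

/-!
The ordered pairs of conjugates in the span fall into orbits named by the five sets; reversing pairs pairs up the sets of
one size.
-/

set_option autoImplicit false
set_option linter.unusedSectionVars false
set_option linter.style.haveILetI false
set_option maxRecDepth 20000

namespace Cfsg.Lib.M23Rec

open Subgroup Cfsg.Lib.ThreeTr Cfsg.Lib.CosetCert
open Cfsg.Lib.FiTwenty.SylTwo (vv)

attribute [local instance] Classical.propDecidable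

universe u

variable {G : Type u} [Group G]

/-- The conjugates in the span. -/
noncomputable def conjS (d : G) (ι : H23 →* G) : Finset ℕ := (Finset.range 2048).filter fun m => IsConj d (av ι m)

namespace Cen

variable {d : G} {ι : H23 →* G} (h : Cen d ι)
include h

theorem mem_conjS {m : ℕ} : m ∈ conjS d ι ↔ m < 2048 ∧ IsConj d (av ι m) := by simp [conjS]

theorem base_mem : 32 ∈ conjS d ι := h.mem_conjS.2 ⟨by norm_num, by rw [h.av_base]⟩

theorem zero_not : 0 ∉ conjS d ι := fun e => by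
  have := (h.mem_conjS.1 e).2
  rw [h.av_zero] at this
  exact h.base_ne (isConj_one_left.1 this)

theorem conj_img {φ : ℕ → ℕ} (hφ : Aut ι φ) {m : ℕ} (hm : m < 2048) : φ m ∈ conjS d ι ↔ m ∈ conjS d ι := by
  obtain ⟨g, hg⟩ := id hφ
  simp only [h.mem_conjS, hm, (hg m hm).1, true_and, h.aut_conj hφ hm]

theorem conj_cls {k a b : ℕ} (hk : k < 5) (ha : a ∈ clsL k) (hb : b ∈ clsL k) (hc : a ∈ conjS d ι) :
    b ∈ conjS d ι := by
  obtain ⟨φ, hφ, -, rfl⟩ := h.base_trans hk ha hb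
  exact (h.conj_img hφ (cls_lt hk ha).1).2 hc

theorem om_unique {k j u v : ℕ} (hk : k < 5) (hj : j < 5) (h1 : Om ι k u v) (h2 : Om ι j u v) : k = j := by
  obtain ⟨φ, hφ, rfl, m, hm, rfl⟩ := h1
  obtain ⟨ψ, hψ, e1, n, hn, e2⟩ := h2
  obtain ⟨ψ', hψ', hl, -⟩ := h.aut_inv hψ
  have hcomp := aut_comp hψ' hφ
  have h32 : ψ' (φ 32) = 32 := by rw [← e1]; exact hl 32 (by norm_num)
  have hm' := h.aut_cls hcomp h32 hk hm
  have en : ψ' (φ m) = n := by rw [← e2]; exact hl n (cls_lt hj hn).1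
  simp only [en] at hm'
  obtain ⟨i, -, -, huni⟩ := cls_cases (cls_lt hj hn).1 (cls_lt hj hn).2.1 (cls_lt hj hn).2.2
  exact (huni k hk hm').trans (huni j hj hn).symm

theorem om_single {k u v u' v' : ℕ} (hk : k < 5) (h1 : Om ι k u v) (h2 : Om ι k u' v') :
    ∃ χ, Aut ι χ ∧ χ u = u' ∧ χ v = v' := by
  obtain ⟨φ, hφ, rfl, m, hm, rfl⟩ := h1
  obtain ⟨ψ, hψ, rfl, n, hn, rfl⟩ := h2
  obtain ⟨φ', hφ', hl, -⟩ := h.aut_inv hφ
  obtain ⟨t, ht, ht32, htm⟩ := h.base_trans hk hm hn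
  refine ⟨fun z => ψ (t (φ' z)), aut_comp hψ (aut_comp ht hφ'), ?_, ?_⟩
  · show ψ (t (φ' (φ 32))) = ψ 32
    rw [hl 32 (by norm_num), ht32]
  · show ψ (t (φ' (φ m))) = ψ n
    rw [hl m (cls_lt hk hm).1, htm]

theorem om_mem {k u v : ℕ} (hk : k < 5) (h1 : Om ι k u v) {r : ℕ} (hr : r ∈ clsL k) (hrS : r ∈ conjS d ι) :
    u ∈ conjS d ι ∧ v ∈ conjS d ι ∧ u ≠ v := by
  obtain ⟨φ, hφ, rfl, m, hm, rfl⟩ := h1
  obtain ⟨hlt, -, h32⟩ := cls_lt hk hm
  exact ⟨(h.conj_img hφ (by norm_num)).2 h.base_mem, (h.conj_img hφ hlt).2 (h.conj_cls hk hr hm hrS),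
    fun e => h32 (h.aut_inj hφ hlt (by norm_num) e.symm)⟩

theorem om_exists {u v : ℕ} (hu : u ∈ conjS d ι) (hv : v ∈ conjS d ι) (hne : u ≠ v) :
    ∃ k < 5, Om ι k u v ∧ ∃ m ∈ clsL k, m ∈ conjS d ι := by
  obtain ⟨φ, hφ, rfl⟩ := h.fuse (h.mem_conjS.1 hu).1 (h.mem_conjS.1 hu).2
  obtain ⟨m, hm, rfl⟩ := h.aut_surj hφ (h.mem_conjS.1 hv).1
  have hmS := (h.conj_img hφ hm).1 hv
  obtain ⟨k, hk, hmk, -⟩ := cls_cases hm (fun e => h.zero_not (e ▸ hmS)) fun e => hne (by rw [e])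
  exact ⟨k, hk, ⟨φ, hφ, rfl, m, hmk, rfl⟩, m, hmk, hmS⟩

omit h in
theorem om_map {k u v : ℕ} {χ : ℕ → ℕ} (hχ : Aut ι χ) (h1 : Om ι k u v) : Om ι k (χ u) (χ v) := by
  obtain ⟨φ, hφ, rfl, m, hm, rfl⟩ := h1
  exact ⟨_, aut_comp hχ hφ, rfl, m, hm, rfl⟩

/-- The number of members at one place. -/
theorem om_count {k u : ℕ} (hk : k < 5) (hu : u ∈ conjS d ι) :
    ((Finset.range 2048).filter fun v => Om ι k u v).card = [22, 22, 231, 231, 1540].getD k 0 := by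
  obtain ⟨φ, hφ, rfl⟩ := h.fuse (h.mem_conjS.1 hu).1 (h.mem_conjS.1 hu).2
  obtain ⟨g, hg⟩ := id hφ
  have hsize : ((Finset.range 2048).filter fun m => m ∈ clsL k).card = [22, 22, 231, 231, 1540].getD k 0 := by
    rw [← cls_card hk, ← List.toFinset_card_of_nodup ((List.nodup_range).filter _)]
    refine congrArg Finset.card (Finset.ext fun m => ?_)
    simp [mem_cls hk]
  rw [← hsize]
  refine (Finset.card_bij (fun m _ => φ m) (fun m hm => ?_) (fun a ha b hb e => ?_) fun v hv => ?_).symm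
  · simp only [Finset.mem_filter, Finset.mem_range] at hm ⊢
    exact ⟨(hg m hm.1).1, φ, hφ, rfl, m, hm.2, rfl⟩
  · simp only [Finset.mem_filter, Finset.mem_range] at ha hb
    exact h.aut_inj hφ ha.1 hb.1 e
  · simp only [Finset.mem_filter, Finset.mem_range] at hv
    obtain ⟨hv, ψ, hψ, e, n, hn, rfl⟩ := hv
    obtain ⟨φ', hφ', hl, hr⟩ := h.aut_inv hφ
    have hn' := h.aut_cls (aut_comp hφ' hψ) (by rw [e]; exact hl 32 (by norm_num)) hk hn
    refine ⟨φ' (ψ n), Finset.mem_filter.2 ⟨Finset.mem_range.2 (cls_lt hk hn').1, hn'⟩, hr _ hv⟩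

/-- The set of the reversed pairs. -/
theorem rev {k r : ℕ} (hk : k < 5) (hr : r ∈ clsL k) (hrS : r ∈ conjS d ι) :
    ∃ a < 5, (∃ m ∈ clsL a, m ∈ conjS d ι) ∧ [22, 22, 231, 231, 1540].getD k 0 = [22, 22, 231, 231, 1540].getD a 0 ∧
      (∀ u v, Om ι k u v → Om ι a v u) ∧ ∀ u v, Om ι a u v → Om ι k v u := by
  have hid : Aut ι id := ⟨1, fun m hm => ⟨hm, by simp⟩⟩
  have h0 : Om ι k 32 r := ⟨id, hid, rfl, r, hr, rfl⟩
  obtain ⟨-, -, hne⟩ := h.om_mem hk h0 hr hrS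
  obtain ⟨a, ha, ha0, m, hm, hmS⟩ := h.om_exists hrS h.base_mem hne.symm
  have fwd : ∀ u v, Om ι k u v → Om ι a v u := fun u v huv => by
    obtain ⟨χ, hχ, rfl, rfl⟩ := h.om_single hk h0 huv
    exact om_map hχ ha0
  have bwd : ∀ u v, Om ι a u v → Om ι k v u := fun u v huv => by
    obtain ⟨χ, hχ, rfl, rfl⟩ := h.om_single ha ha0 huv
    exact om_map hχ h0
  refine ⟨a, ha, ⟨m, hm, hmS⟩, ?_, fwd, bwd⟩
  set P := fun j => (conjS d ι ×ˢ Finset.range 2048).filter fun p : ℕ × ℕ => Om ι j p.1 p.2 with hP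
  have hcard : ∀ j < 5, (P j).card = (conjS d ι).card * [22, 22, 231, 231, 1540].getD j 0 := by
    intro j hj
    rw [← smul_eq_mul, ← Finset.sum_const, hP]
    simp only
    rw [Finset.card_filter, Finset.sum_product]
    refine Finset.sum_congr rfl fun u hu => ?_
    rw [← Finset.card_filter]
    exact h.om_count hj hu
  have heq : (P k).card = (P a).card := by
    refine Finset.card_bij (fun p _ => (p.2, p.1)) (fun p hp => ?_) (fun p _ q _ e => ?_) fun p hp => ?_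
    · simp only [hP, Finset.mem_filter, Finset.mem_product] at hp ⊢
      obtain ⟨h1, h2, -⟩ := h.om_mem hk hp.2 hr hrS
      exact ⟨⟨h2, Finset.mem_range.2 (h.mem_conjS.1 h1).1⟩, fwd _ _ hp.2⟩
    · exact Prod.ext (congrArg Prod.snd e) (congrArg Prod.fst e)
    · simp only [hP, Finset.mem_filter, Finset.mem_product] at hp
      obtain ⟨h1, h2, -⟩ := h.om_mem hk (bwd _ _ hp.2) hr hrS
      refine ⟨(p.2, p.1), ?_, rfl⟩
      simp only [hP, Finset.mem_filter, Finset.mem_product]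
      exact ⟨⟨h1, Finset.mem_range.2 (h.mem_conjS.1 h2).1⟩, bwd _ _ hp.2⟩
  rw [hcard k hk, hcard a ha] at heq
  exact Nat.eq_of_mul_eq_mul_left (Finset.card_pos.2 ⟨32, h.base_mem⟩) heq

end Cen

end Cfsg.Lib.M23Rec
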