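import Cfsg.Agent.M23Rec.Probe

/-!
Eight conjugates in the pattern of the diagram without the seventh letter commute with a noncommuting pair.
-/

set_option autoImplicit false
set_option linter.unusedSectionVars false
set_option linter.style.haveILetI false
set_option maxRecDepth 20000

namespace Cfsg.Lib.M23Rec

open Subgroup Cfsg.Lib.ThreeTr

universe u

variable {G : Type u} [Group G]

section Word

/-- Conjugation by an involution. -/
abbrev cj (x t : G) : G := x * t * x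

theorem cj_fix {x t : G} (hx : x * x = 1) (h : Commute x t) : cj x t = t := by
  rw [cj, h.eq, mul_assoc, hx, mul_one]

theorem cj_twice {x : G} (hx : x * x = 1) (t : G) : cj x (cj x t) = t := by
  rw [cj, cj, show x * (x * t * x) * x = (x * x) * t * (x * x) by group, hx, one_mul, mul_one]

theorem cj_swap {x z : G} (h : Commute x z) (t : G) : cj x (cj z t) = cj z (cj x t) := by
  show x * (z * t * z) * x = z * (x * t * x) * z
  calc x * (z * t * z) * x = (x * z) * t * (z * x) := by group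
    _ = (z * x) * t * (x * z) := by rw [h.eq]
    _ = _ := by group

theorem cj_commute {x p q : G} (hx : x * x = 1) (h : Commute p q) : Commute (cj x p) (cj x q) := by
  show x * p * x * (x * q * x) = x * q * x * (x * p * x)
  calc x * p * x * (x * q * x) = x * p * (x * x) * q * x := by group
    _ = x * (p * q) * x := by rw [hx]; group
    _ = x * (q * p) * x := by rw [h.eq]
    _ = x * q * (x * x) * p * x := by rw [hx]; group
    _ = _ := by group

/-- The word made from a branch of five involutions. -/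
theorem root_word {w y a b c : G} (hw : w * w = 1) (hy : y * y = 1) (ha : a * a = 1) (hb : b * b = 1) (hc : c * c = 1)
    (rwy : cj w y = cj y w) (rwa' : cj w a = cj a w) (rab : cj a b = cj b a) (rac : cj a c = cj c a)
    (cya : Commute y a) (cyb : Commute y b) (cyc : Commute y c) (cwb : Commute w b) (cwc : Commute w c)
    (cbc : Commute b c) :
    (Commute a (cj w (cj y (cj a (cj c (cj b (cj a w)))))) ∧ Commute b (cj w (cj y (cj a (cj c (cj b (cj a w)))))) ∧
      Commute c (cj w (cj y (cj a (cj c (cj b (cj a w)))))) ∧ Commute y (cj w (cj y (cj a (cj c (cj b (cj a w))))))) ∧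
    (cj w (cj y (cj a (cj c (cj b (cj a w))))) = y → b = c) := by
  have key : ∀ t R : G, cj a (cj b (cj c (cj a (cj y (cj w t))))) = R → Commute R w →
      Commute t (cj w (cj y (cj a (cj c (cj b (cj a w)))))) := by
    intro t R e hR
    have ht : t = cj w (cj y (cj a (cj c (cj b (cj a R))))) := by
      rw [← e, cj_twice ha, cj_twice hb, cj_twice hc, cj_twice ha, cj_twice hy, cj_twice hw]
    rw [ht]
    exact cj_commute hw (cj_commute hy (cj_commute ha (cj_commute hc (cj_commute hb (cj_commute ha hR)))))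
  have hY : cj a (cj b (cj c (cj a (cj y (cj w y))))) = cj a (cj w (cj b (cj a c))) := by
    rw [rwy, cj_twice hy, ← rwa', cj_swap cwc.symm, cj_swap cwb.symm, rac]
  refine ⟨⟨key _ (cj a (cj w y)) ?_ ?_, key _ c ?_ cwc.symm, key _ b ?_ cwb.symm, key _ _ hY ?_⟩, fun e => ?_⟩
  · rw [rwa', cj_swap cya, ← rwy, cj_twice ha, cj_swap cwc.symm, cj_fix hc cyc.symm, cj_swap cwb.symm,
      cj_fix hb cyb.symm]
  · have := cj_commute ha (cj_commute hw cya)
    rwa [rwa', cj_twice ha] at this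
  · rw [cj_fix hw cwb, cj_fix hy cyb, rab, cj_swap cbc.symm, cj_twice hb, ← rac, cj_twice ha]
  · rw [cj_fix hw cwc, cj_fix hy cyc, rac, cj_twice hc, ← rab, cj_twice ha]
  · have := cj_commute ha (cj_commute hw (cj_commute hb (cj_commute ha cbc.symm)))
    rwa [rab, cj_twice hb, rwa', cj_twice ha] at this
  · have h0 := congrArg (fun t => cj a (cj b (cj c (cj a (cj y (cj w t)))))) e
    rw [cj_twice hw, cj_twice hy, cj_twice ha, cj_twice hc, cj_twice hb, cj_twice ha, hY] at h0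
    replace h0 := h0.symm
    have h1 := congrArg (cj a) h0
    rw [cj_twice ha, ← rwa'] at h1
    have h2 := congrArg (cj w) h1
    rw [cj_twice hw, cj_twice hw] at h2
    have h3 := congrArg (cj b) h2
    rw [cj_twice hb, ← rab] at h3
    have h4 := congrArg (cj a) h3
    rw [cj_twice ha, cj_twice ha] at h4
    exact h4.symm

end Word

namespace Good

variable {d : G} {ι : H23 →* G} (h : Good d ι)
include h

/-- The eight. -/
theorem exists_eight : ∃ c ∈ conjugatesOf d, ¬ Commute d c ∧ ∃ t : Fin 9 → G, ∀ k : Fin 9, k ≠ 6 →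
    (t k ∈ perp (conjugatesOf d) d ∧ Commute (t k) c) ∧ ∀ j : Fin 9, j ≠ 6 → j < k →
      t j ≠ t k ∧ (¬ Commute (t j) (t k) ↔ FiPres.adjB j.val k.val = true) := by
  haveI := finite_fj
  obtain ⟨y, hy⟩ := Set.nonempty_of_ncard_ne_zero (s := perp (conjugatesOf d) d) (by rw [h.card_perp]; norm_num)
  obtain ⟨ψ₀, hψ₀, eD⟩ := h.view hy.1
  set D := conjugatesOf d with hD
  have hdD : d ∈ D := mem_conjugatesOf_self
  obtain ⟨ψ, hψ, x0, hx0, hx0d⟩ := hψ₀.normalise (y := d) (by rw [eD]; exact ⟨hdD, hy.2.1.symm, hy.2.2.symm⟩)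
  set L : Fin 9 → G := fun k => ψ ⟨FiTwenty.imZ k.val, imZ_mem_H k.isLt⟩ with hLdef
  have hL0 : L 0 = d := by
    rw [← hx0d]
    exact congrArg ψ (Subtype.ext hx0.symm)
  have hLp : ∀ k, L k ∈ perp D y := fun k => eD ▸ hψ.perp_of (letter_perp k.val k.isLt)
  have hsee : ∀ k, Sees ψ (L k) (FiPres.ptL k) := fun k =>
    ⟨_, letter_perp k.val k.isLt, rfl, (FiPres.letter_facts k).2.1.trans (FiTwenty.down_eq (FiTwenty.agrees_gen
      ((show ∀ k : Fin 9, k.val ∈ FiTwenty.lamH by decide) k))).symm⟩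
  have hrel : ∀ j k, j ≠ k → L j ≠ L k ∧ (¬ Commute (L j) (L k) ↔ FiPres.adjB j.val k.val = true) := fun j k hne => by
    obtain ⟨h1, h2⟩ := Good.sees_eq hψ (hsee j) (hsee k)
    obtain ⟨h3, h4⟩ := (FiPres.letter_facts k).2.2 j hne
    exact ⟨fun e => h3 (h1.2 e), h2.symm.trans h4⟩
  have hcom : ∀ j k, FiPres.adjB j.val k.val = false → Commute (L j) (L k) := fun j k e => by
    rcases eq_or_ne j k with rfl | hne
    · exact Commute.refl _
    · exact not_not.1 fun e' => by rw [(hrel j k hne).2.1 e'] at e; exact Bool.false_ne_true e.symm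
  have hyc : ∀ k, Commute y (L k) := fun k => (hLp k).2.2
  have hy2 : ∀ {a : G}, a ∈ D → a * a = 1 := fun {a} ha => by
    obtain ⟨_, hχ, -⟩ := h.view ha
    exact hχ.sq
  -- the view from the last letter but two
  obtain ⟨χ, hχ, eD'⟩ := h.view (hLp 8).1
  set f : Fin 7 → G := ![L 3, L 4, L 5, L 6, L 0, L 1, y] with hfdef
  have hfp : ∀ k, f k ∈ perp D (L 8) := by
    have hk : ∀ k : Fin 9, k ≠ 8 → FiPres.adjB 8 k.val = false → L k ∈ perp D (L 8) := fun k hne e =>
      ⟨(hLp k).1, (hrel k 8 hne).1, hcom 8 k e⟩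
    intro k
    fin_cases k <;> first
      | exact hk _ (by decide) (by decide)
      | exact ⟨hy.1, fun e => (hLp 8).2.1 e.symm, (hyc 8).symm⟩
  have hf : ∀ j k : Fin 7, j < k → f j ≠ f k ∧ (¬ Commute (f j) (f k) ↔ adjP j.val k.val = true) := by
    intro j k hjk
    rcases (show ∀ k : Fin 7, k.val < 6 ∨ k = 6 by decide) k with hk | rfl
    · let σ : Fin 7 → Fin 9 := ![3, 4, 5, 6, 0, 1, 2]
      have hfs : ∀ i : Fin 7, i.val < 6 → f i = L (σ i) := fun i hi => by
        fin_cases i <;> first | rfl | (simp at hi)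
      have hj : j.val < 6 := by rw [Fin.lt_def] at hjk; omega
      obtain ⟨a, b⟩ := hrel (σ j) (σ k) ((show ∀ j k : Fin 7, j < k → ![3, 4, 5, 6, 0, 1, 2] j ≠
        (![3, 4, 5, 6, 0, 1, 2] k : Fin 9) by decide) j k hjk)
      rw [hfs j hj, hfs k hk]
      refine ⟨a, b.trans (Iff.of_eq (congrArg (· = true) ((show ∀ j k : Fin 7, j < k → k.val < 6 →
        FiPres.adjB (![3, 4, 5, 6, 0, 1, 2] j : Fin 9).val (![3, 4, 5, 6, 0, 1, 2] k : Fin 9).val = adjP j.val k.val
          by decide) j k hjk hk)))⟩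
    · have hj : ∃ i, f j = L i := by
        fin_cases j <;> first | exact ⟨_, rfl⟩ | exact absurd hjk (by decide)
      obtain ⟨i, hi⟩ := hj
      rw [hi, show f 6 = y from rfl]
      refine ⟨(hLp i).2.1, iff_of_false (not_not.2 (hyc i).symm) ?_⟩
      rw [(show ∀ j : Fin 7, j < 6 → adjP j.val (6 : Fin 7).val = false by decide) j hjk]
      exact Bool.false_ne_true
  choose p hp using fun k => hχ.sees_exists (show f k ∈ perp (conjugatesOf (L 8)) (L 8) by rw [eD']; exact hfp k)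
  obtain ⟨z, hz⟩ := exists_probe (t := p) fun j k hjk => by
    obtain ⟨h1, h2⟩ := Good.sees_eq hχ (hp j) (hp k)
    exact ⟨fun e => (hf j k hjk).1 (h1.1 e), h2.trans (hf j k hjk).2⟩
  obtain ⟨w, hw', hwz⟩ := hχ.sees_lift z
  have hw : w ∈ perp D (L 8) := by rw [eD'] at hw'; exact hw'
  have hwf : ∀ k, w ≠ f k ∧ (¬ Commute (f k) w ↔ (k = 1 ∨ k = 6)) := fun k => by
    obtain ⟨h1, -⟩ := Good.sees_eq hχ hwz (hp k)
    obtain ⟨-, h2⟩ := Good.sees_eq hχ (hp k) hwz
    exact ⟨fun e => (hz k).1 (h1.2 e), h2.symm.trans (hz k).2⟩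
  have hwc : ∀ k : Fin 7, k ≠ 1 → k ≠ 6 → Commute (f k) w := fun k h1 h6 =>
    not_not.1 fun e => by rcases (hwf k).2.1 e with e' | e' <;> contradiction
  have hwd : w ∈ perp D d := by
    rw [← hL0]
    exact ⟨hw.1, (hwf 4).1, hwc 4 (by decide) (by decide)⟩
  have hnwy : ¬ Commute y w := (hwf 6).2.2 (Or.inr rfl)
  have hdperp : ∀ k : Fin 9, k ≠ 0 → k ≠ 1 → L k ∈ perp D d := fun k h0 h1 => by
    rw [← hL0]
    exact ⟨(hLp k).1, (hrel k 0 h0).1, hcom 0 k ((show ∀ k : Fin 9, k ≠ 1 → FiPres.adjB 0 k.val = false by decide) k h1)⟩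
  have hbraid : ∀ p ∈ perp D d, ∀ q ∈ perp D d, ¬ Commute p q → cj p q = cj q p := fun p hp' q hq hn => by
    have e3 := h.cube hp' hq hn
    rw [pow_succ, pow_two] at e3
    have e4 : (p * q * p) * (q * p * q) = 1 := by simpa only [mul_assoc] using e3
    have e5 : cj p q = (q * p * q)⁻¹ := eq_inv_of_mul_eq_one_left e4
    rw [e5, mul_inv_rev, mul_inv_rev, inv_eq_of_mul_eq_one_right (hy2 hp'.1), inv_eq_of_mul_eq_one_right (hy2 hq.1),
      ← mul_assoc]
  -- the new member commutes with the seventh letter of the chain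
  have hw7 : Commute w (L 7) := by
    by_contra hn
    have hne83 : L 8 ≠ L 3 := (hrel 8 3 (by decide)).1
    obtain ⟨⟨u7, u8, u3, uy⟩, hne⟩ := root_word (w := w) (y := y) (a := L 7) (b := L 8) (c := L 3) (hy2 hw.1) (hy2 hy.1)
      (hy2 (hLp 7).1) (hy2 (hLp 8).1) (hy2 (hLp 3).1) (hbraid w hwd y hy fun e => hnwy e.symm)
      (hbraid w hwd _ (hdperp 7 (by decide) (by decide)) hn)
      (hbraid _ (hdperp 7 (by decide) (by decide)) _ (hdperp 8 (by decide) (by decide))
        ((hrel 7 8 (by decide)).2.2 (by decide)))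
      (hbraid _ (hdperp 7 (by decide) (by decide)) _ (hdperp 3 (by decide) (by decide))
        ((hrel 7 3 (by decide)).2.2 (by decide)))
      (hyc 7) (hyc 8) (hyc 3) hw.2.2.symm (hwc 0 (by decide) (by decide)).symm (hcom 8 3 (by decide))
    set u := cj w (cj y (cj (L 7) (cj (L 3) (cj (L 8) (cj (L 7) w))))) with hu
    have hconj : ∀ {p q : G}, p ∈ D → q ∈ D → cj p q ∈ D := fun {p q} hp' hq => by
      refine IsConj.trans hq (isConj_iff.2 ⟨p, ?_⟩)
      rw [inv_eq_of_mul_eq_one_right (hy2 hp')]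
    have huD : u ∈ D := hconj hw.1 (hconj hy.1 (hconj (hLp 7).1 (hconj (hLp 3).1 (hconj (hLp 8).1
      (hconj (hLp 7).1 hw.1)))))
    have hup : u ∈ perp (conjugatesOf y) y := eD.symm ▸ ⟨huD, fun e => hne83 (hne e), uy⟩
    obtain ⟨x, hxP, hxu⟩ := hψ.mem_perp.1 hup
    have hfix : ∀ k : Fin 9, k ≠ 2 → k ≠ 4 → Commute (L k) u := by
      intro k hk2 hk4
      rcases (show ∀ k : Fin 9, k ≠ 2 → k ≠ 4 → k = 7 ∨ k = 8 ∨ k = 3 ∨ k = 0 ∨ k = 1 ∨ k = 5 ∨ k = 6 by decide)
        k hk2 hk4 with rfl | rfl | rfl | hk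
      · exact u7
      · exact u8
      · exact u3
      have cw : Commute (L k) w := by
        rcases hk with rfl | rfl | rfl | rfl
        exacts [hwc 4 (by decide) (by decide), hwc 5 (by decide) (by decide), hwc 2 (by decide) (by decide),
          hwc 3 (by decide) (by decide)]
      have cy : Commute (L k) y := (hyc k).symm
      obtain ⟨c7, c3, c8⟩ : Commute (L k) (L 7) ∧ Commute (L k) (L 3) ∧ Commute (L k) (L 8) := by
        rcases hk with rfl | rfl | rfl | rfl <;>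
          exact ⟨hcom _ _ (by decide), hcom _ _ (by decide), hcom _ _ (by decide)⟩
      exact (cw.mul_right ((cy.mul_right ((c7.mul_right ((c3.mul_right ((c8.mul_right ((c7.mul_right cw).mul_right
        c7)).mul_right c8)).mul_right c3)).mul_right c7)).mul_right cy)).mul_right cw
    refine hxP.2.1 (only_base hxP.1 fun l hl => ?_)
    rcases eq_or_ne l 10 with rfl | h10
    · exact hxP.2.2
    have hl9 : l < 9 ∧ l ≠ 2 ∧ l ≠ 4 :=
      (show ∀ l ∈ scanL, l ≠ 10 → l < 9 ∧ l ≠ 2 ∧ l ≠ 4 by decide) l hl h10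
    have e := hfix ⟨l, hl9.1⟩ (fun e => hl9.2.1 (congrArg Fin.val e)) (fun e => hl9.2.2 (congrArg Fin.val e))
    rw [← hxu] at e
    exact (show Commute (⟨_, imZ_mem_H hl9.1⟩ : H23) x from hψ.1.inj (by rw [map_mul, map_mul]; exact e.eq)).map
      H23.subtype
  -- the eight
  let σ : Fin 9 → Fin 9 := ![8, 7, 3, 4, 5, 6, 2, 2, 2]
  set t : Fin 9 → G := ![L 8, L 7, L 3, L 4, L 5, L 6, y, w, y] with htdef
  have ht : ∀ i : Fin 9, i.val < 6 → t i = L (σ i) := fun i hi => by
    fin_cases i <;> first | rfl | (simp at hi)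
  refine ⟨L 1, (hLp 1).1, hL0 ▸ (hrel 0 1 (by decide)).2.2 (by decide), t, fun k hk6 => ⟨?_, fun j hj6 hjk => ?_⟩⟩
  · rcases (show ∀ k : Fin 9, k ≠ 6 → k.val < 6 ∨ k = 7 ∨ k = 8 by decide) k hk6 with hk | rfl | rfl
    · rw [ht k hk]
      refine ⟨hdperp _ ?_ ?_, hcom _ _ ?_⟩ <;>
        [exact (show ∀ k : Fin 9, k.val < 6 → (![8, 7, 3, 4, 5, 6, 2, 2, 2] k : Fin 9) ≠ 0 by decide) k hk;
         exact (show ∀ k : Fin 9, k.val < 6 → (![8, 7, 3, 4, 5, 6, 2, 2, 2] k : Fin 9) ≠ 1 by decide) k hk;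
         exact (show ∀ k : Fin 9, k.val < 6 → FiPres.adjB (![8, 7, 3, 4, 5, 6, 2, 2, 2] k : Fin 9).val 1 = false
           by decide) k hk]
    · exact ⟨hwd, (hwc 5 (by decide) (by decide)).symm⟩
    · exact ⟨⟨hy.1, hy.2.1, hy.2.2⟩, hyc 1⟩
  · rcases (show ∀ k : Fin 9, k ≠ 6 → k.val < 6 ∨ k = 7 ∨ k = 8 by decide) k hk6 with hk | rfl | rfl
    · have hj : j.val < 6 := by rw [Fin.lt_def] at hjk; omega
      rw [ht j hj, ht k hk]
      obtain ⟨a, b⟩ := hrel (σ j) (σ k) ((show ∀ j k : Fin 9, j < k → k.val < 6 →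
        (![8, 7, 3, 4, 5, 6, 2, 2, 2] j : Fin 9) ≠ ![8, 7, 3, 4, 5, 6, 2, 2, 2] k by decide) j k hjk hk)
      refine ⟨a, b.trans (Iff.of_eq (congrArg (· = true) ((show ∀ j k : Fin 9, j < k → k.val < 6 →
        FiPres.adjB (![8, 7, 3, 4, 5, 6, 2, 2, 2] j : Fin 9).val (![8, 7, 3, 4, 5, 6, 2, 2, 2] k : Fin 9).val =
          FiPres.adjB j.val k.val by decide) j k hjk hk)))⟩
    · rw [show t 7 = w from rfl]
      rcases (show ∀ j : Fin 9, j ≠ 6 → j < 7 → j = 0 ∨ j = 1 ∨ j = 2 ∨ j = 3 ∨ j = 4 ∨ j = 5 by decide) j hj6 hjk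
        with rfl | rfl | rfl | rfl | rfl | rfl
      · exact ⟨hw.2.1.symm, iff_of_false (not_not.2 hw.2.2) (by decide)⟩
      · exact ⟨fun e => hnwy (e ▸ hyc 7), iff_of_false (not_not.2 hw7.symm) (by decide)⟩
      · exact ⟨(hwf 0).1.symm, iff_of_false (not_not.2 (hwc 0 (by decide) (by decide))) (by decide)⟩
      · exact ⟨(hwf 1).1.symm, iff_of_true ((hwf 1).2.2 (Or.inl rfl)) (by decide)⟩
      · exact ⟨(hwf 2).1.symm, iff_of_false (not_not.2 (hwc 2 (by decide) (by decide))) (by decide)⟩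
      · exact ⟨(hwf 3).1.symm, iff_of_false (not_not.2 (hwc 3 (by decide) (by decide))) (by decide)⟩
    · rw [show t 8 = y from rfl]
      rcases (show ∀ j : Fin 9, j ≠ 6 → j < 8 → j.val < 6 ∨ j = 7 by decide) j hj6 hjk with hj | rfl
      · rw [ht j hj]
        exact ⟨(hLp _).2.1, iff_of_false (not_not.2 (hyc _).symm) (by
          rw [(show ∀ j : Fin 9, j.val < 6 → FiPres.adjB j.val (8 : Fin 9).val = false by decide) j hj]; decide)⟩
      · exact ⟨(hwf 6).1, iff_of_true (fun e : Commute w y => hnwy e.symm) (by decide)⟩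

end Good

end Cfsg.Lib.M23Rec
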