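import Cfsg.Agent.M23Rec.View
import Cfsg.Agent.FiTen.Complete

/-!
Neighbours of a member as the 3510 points, and a point seeing seven given ones in a prescribed way.
-/

set_option autoImplicit false
set_option Elab.async false
set_option linter.unusedSectionVars false
set_option linter.style.haveILetI false
set_option maxRecDepth 20000

namespace Cfsg.Lib.M23Rec

open Subgroup Cfsg.Lib.ThreeTr Cfsg.Lib.CosetCert Cfsg.Lib.PermCert

/-- Joined among the seven. -/
def adjP (j k : ℕ) : Bool := [(0, 1), (1, 2), (2, 3), (4, 5)].contains (min j k, max j k)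

/-- Points seeing the first four letters as wanted. -/
def probeL : List ℕ :=
  [62, 77, 80, 87, 88, 105, 106, 108, 112, 113, 135, 136, 138, 143, 170, 637, 678, 854, 885, 1014, 1025, 1027, 1053,
    1200, 1201, 1210, 1247, 1394, 1395, 1707, 1776, 1912, 1997, 2125, 2179]

/-- The point moves or not as wanted. -/
def seesB (e z : ℕ) (b : Bool) : Bool := (z != e) && ((evalW FiPres.sigTabs (FiPres.conjW e) z != z) == b)

theorem probe_low : (probeL.all fun z => decide (z < 3510) && (List.range 4).all fun j =>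
    (z != FiPres.letterPts.getD j 0) && ((evalW FiPres.sigTabs [j] z != z) == decide (j = 1))) = true := by
  decide +kernel

theorem probe_ok : ((FiPres.candL 5).all fun e => ((FiPres.candL 5).filter fun f => seesB e f true).all fun f =>
    ((FiPres.candL 5).filter fun g => seesB e g false && seesB f g false).all fun g =>
      probeL.any fun z => seesB e z false && seesB f z false && seesB g z true) = true := by decide +kernel

/-- Four points in the pattern of the first four letters. -/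
def Chain4 (t : Fin 4 → Fin 3510) : Prop :=
  ∀ j k : Fin 4, j < k → t j ≠ t k ∧ (FiPres.tr (t j) • t k ≠ t k ↔ FiPres.adjB j.val k.val = true)

/-- The point of one of the first four letters. -/
def pt4 (k : Fin 4) : Fin 3510 := FiPres.ptL ⟨k.val, by omega⟩

theorem Chain4.smul {t : Fin 4 → Fin 3510} (h : Chain4 t) (g : Cfsg.Spor.Fi22) : Chain4 fun k => g • t k := by
  intro j k hjk
  obtain ⟨h1, h2⟩ := h j k hjk
  refine ⟨fun e => h1 (smul_left_cancel g e), ?_⟩
  show FiPres.tr (g • t j) • g • t k ≠ g • t k ↔ _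
  rw [FiPres.tr_smul, ← mul_smul, inv_mul_cancel_right, mul_smul, ne_eq, smul_left_cancel_iff]
  exact h2

theorem chain_move {t : Fin 4 → Fin 3510} (h : Chain4 t) (m : Fin 4)
    (hp : ∀ j : Fin 4, j.val < m.val → t j = pt4 j) :
    ∃ g : Cfsg.Spor.Fi22, (∀ j : Fin 4, j.val < m.val → g • t j = pt4 j) ∧ g • t m = pt4 m := by
  haveI := FiPres.transitive
  have hs := List.all_eq_true.1 FiPres.stages_ok m.val (List.mem_range.2 m.isLt)
  simp only [Bool.and_eq_true, List.all_eq_true, List.mem_range, decide_eq_true_eq, beq_iff_eq, Bool.or_eq_true,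
    Bool.not_eq_true', Lev.ok] at hs
  obtain ⟨⟨⟨⟨hb, hscan⟩, hbase⟩, hgen⟩, hcov⟩ := hs
  set L := FiPres.levT m.val
  let H : Subgroup Cfsg.Spor.Fi22 := Subgroup.closure {x | ∃ w ∈ L.gens, wval FiPres.im10 w = x}
  have hv : ∀ j : Fin 4, (pt4 j).val = FiPres.letterPts.getD j.val 0 := fun j => FiTen.ptL_val _
  have hfix : ∀ g ∈ H, ∀ j : Fin 4, j.val < m.val → g • pt4 j = pt4 j := fun g hg j hj => by
    induction hg using Subgroup.closure_induction with
    | mem x hx =>
      obtain ⟨w, hw, rfl⟩ := hx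
      have e := evalW_apply FiPres.im10 FiPres.psi FiPres.sigTabs FiPres.tabled.act w
        (fun l hl => (hgen w hw).1 l hl) (pt4 j)
      rw [hv, (hgen w hw).2 j.val hj, ← hv, ← map_inv, ← FiPres.smul_eq] at e
      exact (inv_smul_eq_iff.1 (Fin.ext e)).symm
    | one => rw [one_smul]
    | mul a b _ _ ha hb' => rw [mul_smul, hb', ha]
    | inv a _ ha => rw [inv_smul_eq_iff, ha]
  have hcand : FiPres.candB m.val m.val (t m).val = true := by
    rw [FiPres.candB, List.all_eq_true]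
    intro j hj
    rw [List.mem_range] at hj
    obtain ⟨h1, h2⟩ := h ⟨j, by omega⟩ m (by rw [Fin.lt_def]; exact hj)
    rw [hp ⟨j, by omega⟩ hj] at h1 h2
    rw [pt4, (FiPres.letter_facts _).2.1, ne_eq, Fin.ext_iff,
      FiPres.tabled.im_smul FiPres.smul_eq (show j < 10 by omega)] at h2
    rw [Bool.and_eq_true, bne_iff_ne, beq_iff_eq]
    refine ⟨fun e => h1 (Fin.ext ?_), ?_⟩
    · rw [hv]; exact e.symm
    · rw [Bool.eq_iff_iff, bne_iff_ne]
      exact h2
  have hz := hcov (t m).val (t m).isLt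
  rw [hcand] at hz
  obtain ⟨g, hg, e⟩ := FiPres.tabled.reach FiPres.smul_eq (H := H) (p := (⟨L.b, hb⟩ : Fin 3510))
    (fun w hw => (hgen w hw).1) (fun w hw => Subgroup.subset_closure ⟨w, hw, rfl⟩) L.orb (1 <<< L.b) hscan
    (fun i hi => ⟨1, H.one_mem, by
      rw [Nat.one_shiftLeft, Nat.testBit_two_pow, decide_eq_true_eq] at hi
      rw [one_smul]
      exact hi⟩) (t m).val (hz.resolve_left (by decide))
  refine ⟨g⁻¹, fun j hj => ?_, ?_⟩
  · rw [inv_smul_eq_iff, hfix g hg j hj]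
    exact hp j hj
  · rw [inv_smul_eq_iff, ← (Fin.ext e : g • (⟨L.b, hb⟩ : Fin 3510) = t m)]
    congr 1
    exact Fin.ext (by rw [hv]; exact hbase)

theorem chain_prefix {t : Fin 4 → Fin 3510} (h : Chain4 t) :
    ∀ m, m ≤ 4 → ∃ g : Cfsg.Spor.Fi22, ∀ j : Fin 4, j.val < m → g • t j = pt4 j
  | 0, _ => ⟨1, fun j hj => absurd hj (Nat.not_lt_zero _)⟩
  | m + 1, hm => by
    obtain ⟨g, hg⟩ := chain_prefix h m (by omega)
    obtain ⟨k, hk1, hk2⟩ := chain_move (h.smul g) ⟨m, by omega⟩ hg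
    refine ⟨k * g, fun j hj => ?_⟩
    rw [mul_smul]
    rcases Nat.lt_succ_iff_lt_or_eq.1 hj with h' | h'
    · exact hk1 j h'
    · rw [show j = ⟨m, by omega⟩ from Fin.ext h']
      exact hk2

/-- A point seeing seven points as wanted. -/
theorem exists_probe {t : Fin 7 → Fin 3510}
    (h : ∀ j k : Fin 7, j < k → t j ≠ t k ∧ (FiPres.tr (t j) • t k ≠ t k ↔ adjP j.val k.val = true)) :
    ∃ z, ∀ k : Fin 7, z ≠ t k ∧ (FiPres.tr (t k) • z ≠ z ↔ (k = 1 ∨ k = 6)) := by
  haveI := FiPres.transitive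
  have hch : Chain4 fun k => t ⟨k.val, by omega⟩ := fun j k hjk => by
    obtain ⟨h1, h2⟩ := h ⟨j.val, by omega⟩ ⟨k.val, by omega⟩ hjk
    exact ⟨h1, h2.trans (by rw [(show ∀ j k : Fin 4, adjP j.val k.val = FiPres.adjB j.val k.val by decide) j k])⟩
  obtain ⟨g, hg⟩ := chain_prefix hch 4 le_rfl
  have hrel : ∀ a b : Fin 3510, (FiPres.tr (g • a) • g • b ≠ g • b) ↔ (FiPres.tr a • b ≠ b) := fun a b => by
    rw [FiPres.tr_smul, ← mul_smul, inv_mul_cancel_right, mul_smul, ne_eq, smul_left_cancel_iff]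
  have hmem : ∀ k : Fin 7, 4 ≤ k.val → (g • t k).val ∈ FiPres.candL 5 := fun k hk => by
    have h1 := List.all_eq_true.1 (List.all_eq_true.1 FiPres.cand_covers 1 (by decide)) (g • t k).val
      (List.mem_range.2 (g • t k).isLt)
    have hc : FiPres.candB 5 4 (g • t k).val = true := by
      rw [FiPres.candB, List.all_eq_true]
      intro j hj
      rw [List.mem_range] at hj
      obtain ⟨h2, h3⟩ := h ⟨j, by omega⟩ k (by rw [Fin.lt_def]; show j < k.val; omega)
      rw [← hrel, ne_eq (α := Fin 3510), hg ⟨j, hj⟩ hj, pt4, (FiPres.letter_facts _).2.1, Fin.ext_iff,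
        FiPres.tabled.im_smul FiPres.smul_eq (show j < 10 by omega)] at h3
      rw [Bool.and_eq_true, bne_iff_ne, beq_iff_eq]
      refine ⟨fun e => h2 ?_, ?_⟩
      · refine smul_left_cancel g ((hg ⟨j, hj⟩ hj).trans (Fin.ext ?_))
        rw [pt4, FiTen.ptL_val]
        exact e.symm
      · rw [Bool.eq_iff_iff, bne_iff_ne, show (FiPres.adjB j 5 = true) ↔ (adjP j k.val = true) from by
          rw [(show ∀ (j : Fin 4) (k : Fin 7), 4 ≤ k.val → FiPres.adjB j.val 5 = adjP j.val k.val by decide)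
            ⟨j, hj⟩ k hk]]
        exact h3
    rw [hc] at h1
    simpa using h1
  have hkn : ∀ k : Fin 7, 4 ≤ k.val → FiPres.knownPt (g • t k).val = true := fun k hk =>
    FiTen.known_cand (k := 5) (by norm_num) (by norm_num) (hmem k hk)
  have hsees : ∀ j : Fin 7, 4 ≤ j.val → ∀ (z : Fin 3510) (b : Bool), seesB (g • t j).val z.val b = true ↔
      z ≠ g • t j ∧ (FiPres.tr (g • t j) • z ≠ z ↔ b = true) := fun j hj z b => by
    have e : (FiPres.tr (g • t j) • z ≠ z) ↔
        (evalW FiPres.sigTabs (FiPres.conjW (g • t j).val) z.val != z.val) = true := by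
      rw [bne_iff_ne, ne_eq, Fin.ext_iff, (FiPres.tr_known (hkn j hj)).2 z]
    rw [seesB, Bool.and_eq_true, bne_iff_ne, beq_iff_eq, e, ← Bool.eq_iff_iff]
    exact and_congr_left' (not_congr Fin.val_inj)
  have hp : ∀ j k : Fin 7, 4 ≤ j.val → j < k →
      seesB (g • t j).val (g • t k).val (adjP j.val k.val) = true := fun j k hj hjk => by
    obtain ⟨h1, h2⟩ := h j k hjk
    exact (hsees j hj _ _).2 ⟨fun e => h1 (smul_left_cancel g e).symm, (hrel _ _).trans h2⟩
  have h0 := probe_ok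
  simp only [List.all_eq_true, List.mem_filter, Bool.and_eq_true, List.any_eq_true] at h0
  obtain ⟨z, hz, ⟨z4, z5⟩, z6⟩ := h0 _ (hmem 4 (by decide)) _ ⟨hmem 5 (by decide), hp 4 5 (by decide) (by decide)⟩ _
    ⟨hmem 6 (by decide), hp 4 6 (by decide) (by decide), hp 5 6 (by decide) (by decide)⟩
  have hlow := List.all_eq_true.1 probe_low z hz
  simp only [Bool.and_eq_true, decide_eq_true_eq, List.all_eq_true, List.mem_range, bne_iff_ne, beq_iff_eq] at hlow
  refine ⟨g⁻¹ • ⟨z, hlow.1⟩, fun k => ?_⟩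
  suffices H : (⟨z, hlow.1⟩ : Fin 3510) ≠ g • t k ∧
      (FiPres.tr (g • t k) • (⟨z, hlow.1⟩ : Fin 3510) ≠ ⟨z, hlow.1⟩ ↔ (k = 1 ∨ k = 6)) by
    refine ⟨fun e => H.1 (by rw [← e, smul_inv_smul]), ?_⟩
    rw [← hrel, smul_inv_smul]
    exact H.2
  rcases Nat.lt_or_ge k.val 4 with hk | hk
  · obtain ⟨l1, l2⟩ := hlow.2 k.val hk
    rw [show g • t k = pt4 ⟨k.val, hk⟩ from hg ⟨k.val, hk⟩ hk]
    refine ⟨fun e => l1 ?_, ?_⟩
    · have := congrArg Fin.val e
      rw [pt4, FiTen.ptL_val] at this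
      exact this
    · rw [pt4, (FiPres.letter_facts _).2.1, ne_eq, Fin.ext_iff,
        FiPres.tabled.im_smul FiPres.smul_eq (show k.val < 10 by omega)]
      rw [Bool.eq_iff_iff, bne_iff_ne, decide_eq_true_eq] at l2
      refine Iff.trans l2 ?_
      exact (show ∀ k : Fin 7, k.val < 4 → (k.val = 1 ↔ (k = 1 ∨ k = 6)) by decide) k hk
  · rcases (show ∀ k : Fin 7, 4 ≤ k.val → k = 4 ∨ k = 5 ∨ k = 6 by decide) k hk with rfl | rfl | rfl
    · obtain ⟨a, b⟩ := (hsees 4 (by decide) ⟨z, hlow.1⟩ false).1 z4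
      exact ⟨a, b.trans (by decide)⟩
    · obtain ⟨a, b⟩ := (hsees 5 (by decide) ⟨z, hlow.1⟩ false).1 z5
      exact ⟨a, b.trans (by decide)⟩
    · obtain ⟨a, b⟩ := (hsees 6 (by decide) ⟨z, hlow.1⟩ true).1 z6
      exact ⟨a, b.trans (by decide)⟩

universe u

variable {G : Type u} [Group G]

theorem down_base_cases {x : H23} (h : FiTwenty.down x = 1) : x = 1 ∨ x = FiTwenty.zH := by
  obtain ⟨a, b, hab, huniv⟩ := Nat.card_eq_two_iff.1 FiTwenty.card_ker
  have hz : (⟨FiTwenty.zH, FiTwenty.down_z⟩ : FiTwenty.down.ker) ≠ 1 := fun h =>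
    FiTwenty.z_ne (congrArg (fun t : FiTwenty.down.ker => (t.1 : Cfsg.Spor.Fi23)) h)
  have key : ∀ s t u : FiTwenty.down.ker, s ≠ u → t ≠ u → s = t := fun s t u hs ht => by
    have h : ∀ w, w = a ∨ w = b := fun w => by
      have : w ∈ ({a, b} : Set FiTwenty.down.ker) := huniv ▸ Set.mem_univ w
      simpa using this
    rcases h s with rfl | rfl <;> rcases h t with rfl | rfl <;> rcases h u with rfl | rfl <;> simp_all
  by_cases h1 : (⟨x, h⟩ : FiTwenty.down.ker) = 1
  · exact Or.inl (congrArg Subtype.val h1)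
  · exact Or.inr (congrArg Subtype.val (key ⟨x, h⟩ _ 1 h1 hz))

theorem down_inj {x y : H23} (hx : (x : Fj) ∈ P0) (hy : (y : Fj) ∈ P0) (e : FiTwenty.down x = FiTwenty.down y) :
    x = y := by
  haveI := finite_fj
  rcases down_base_cases (x := x⁻¹ * y) (by rw [map_mul, map_inv, e, inv_mul_cancel]) with k | k
  · exact inv_mul_eq_one.1 k
  exfalso
  have k' : (y : Fj) = (x : Fj) * zz := by
    have := congrArg Subtype.val k
    rw [coe_mul, coe_inv, inv_mul_eq_iff_eq_mul] at this
    exact this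
  have hl : CList D0 [(x : Fj), zz] := ⟨by simpa using hx.2.1, by simp [hx.1, zz_mem],
    fun p hp q hq => by
      simp only [List.mem_cons, List.not_mem_nil, or_false] at hp hq
      rcases hp with rfl | rfl <;> rcases hq with rfl | rfl <;>
        first | exact Commute.refl _ | exact hx.2.2 | exact hx.2.2.symm⟩
  have := h23.length_unique hl (l' := [(y : Fj)]) ⟨List.nodup_singleton _, by simp [hy.1], by simp⟩ (by simp) (by simp)
    (by simp) (by simp) (by simp [k'])
  simp at this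

theorem down_commute {x y : H23} (hx : (x : Fj) ∈ P0) (hy : (y : Fj) ∈ P0)
    (e : Commute (FiTwenty.down x) (FiTwenty.down y)) : Commute x y := by
  haveI := finite_fj
  by_contra hc
  have hc' : ¬ Commute (x : Fj) y := fun k => hc (Subtype.ext k.eq)
  have h2 : ∀ z : H23, (z : Fj) ∈ P0 → z * z = 1 := fun z hz => Subtype.ext (sq_eq_one h23.cls.1 hz.1)
  have h3 : (x * y) ^ 3 = 1 := Subtype.ext (by
    rw [SubmonoidClass.coe_pow, coe_mul, OneMemClass.coe_one]; exact cube_of_not_commute h23.cls.1 hx.1 hy.1 hc')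
  have hd : FiTwenty.down ((x * y) * (x * y)) = 1 := by
    rw [map_mul, map_mul]
    calc _ = FiTwenty.down x * (FiTwenty.down y * FiTwenty.down x) * FiTwenty.down y := by group
      _ = FiTwenty.down (x * x) * FiTwenty.down (y * y) := by rw [← e.eq, map_mul, map_mul]; group
      _ = 1 := by rw [h2 x hx, h2 y hy, map_one, one_mul]
  have hxy : x * y = 1 := by
    rw [pow_succ, pow_two] at h3
    rcases down_base_cases hd with k | k
    · rwa [k, one_mul] at h3
    · exfalso
      rw [k] at h3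
      have e1 : x * y = FiTwenty.zH := by
        rw [eq_inv_of_mul_eq_one_right h3]
        exact inv_eq_of_mul_eq_one_right (Subtype.ext FiTwenty.z_sq)
      rw [e1, show FiTwenty.zH * FiTwenty.zH = (1 : H23) from Subtype.ext FiTwenty.z_sq] at k
      exact FiTwenty.z_ne (congrArg Subtype.val k.symm)
  refine hc ?_
  rw [eq_inv_of_mul_eq_one_left hxy]
  exact (Commute.refl y).inv_left

/-- A neighbour and its point. -/
def Sees (ι : H23 →* G) (y : G) (z : Fin 3510) : Prop :=
  ∃ x : H23, (x : Fj) ∈ P0 ∧ ι x = y ∧ FiPres.tr z = FiTwenty.down x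

theorem down_letter : FiTwenty.down ⟨FiTwenty.imZ 0, P0_le letter_P0⟩ = FiPres.im10 0 :=
  FiTwenty.down_eq (FiTwenty.agrees_gen (by decide))

theorem down_transp {x : H23} (hx : (x : Fj) ∈ P0) : FiTwenty.down x ∈ FiPres.transp := by
  obtain ⟨c, hc, hmap⟩ := perp_lists (l := [FiTwenty.imZ 0]) (l' := [(x : Fj)])
    ⟨List.nodup_singleton _, fun y hy => by rw [List.mem_singleton.1 hy]; exact letter_P0.1, by simp⟩
    ⟨List.nodup_singleton _, fun y hy => by rw [List.mem_singleton.1 hy]; exact hx.1, by simp⟩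
    (fun y hy => by rw [List.mem_singleton.1 hy]; exact letter_P0)
    (fun y hy => by rw [List.mem_singleton.1 hy]; exact hx) rfl (by simp)
  simp only [List.map_cons, List.map_nil, List.cons.injEq, and_true] at hmap
  rw [show x = ⟨c, hc⟩ * ⟨_, P0_le letter_P0⟩ * ⟨c, hc⟩⁻¹ from Subtype.ext hmap, map_mul, map_mul, map_inv, down_letter]
  exact FiPres.mem_transp.2 ⟨_, rfl⟩

namespace Good

variable {d : G} {ι : H23 →* G} (h : Good d ι)
include h

theorem sees_exists {y : G} (hy : y ∈ perp (conjugatesOf d) d) : ∃ z, Sees ι y z := by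
  obtain ⟨x, hx, rfl⟩ := h.mem_perp.1 hy
  obtain ⟨z, hz⟩ := FiPres.exists_point (down_transp hx)
  exact ⟨z, x, hx, rfl, hz⟩

theorem sees_lift (z : Fin 3510) : ∃ y ∈ perp (conjugatesOf d) d, Sees ι y z := by
  haveI := FiPres.transitive
  obtain ⟨g, rfl⟩ := MulAction.exists_smul_eq Cfsg.Spor.Fi22 FiPres.p0 z
  obtain ⟨c, rfl⟩ := FiTwenty.down_surjective g
  have hx : ((c * ⟨_, P0_le letter_P0⟩ * c⁻¹ : H23) : Fj) ∈ P0 := P0_conj c.2 letter_P0
  refine ⟨_, h.perp_of hx, _, hx, rfl, ?_⟩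
  rw [FiPres.tr_orbit, map_mul, map_mul, map_inv, down_letter]

omit h in
theorem sees_eq (h : Good d ι) {y y' : G} {z z' : Fin 3510} (hz : Sees ι y z) (hz' : Sees ι y' z') :
    (z = z' ↔ y = y') ∧ (FiPres.tr z • z' ≠ z' ↔ ¬ Commute y y') := by
  obtain ⟨x, hx, rfl, e⟩ := hz
  obtain ⟨x', hx', rfl, e'⟩ := hz'
  refine ⟨⟨fun k => by rw [down_inj hx hx' (by rw [← e, ← e', k])], fun k => FiPres.tr_injective ?_⟩, ?_⟩
  · rw [e, e', h.1.inj k]
  · rw [ne_eq, FiPres.tr_fix, e, e']
    exact not_congr ⟨fun k => (down_commute hx hx' k).map ι, fun k => by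
      refine Commute.map (show Commute x x' from h.1.inj ?_) FiTwenty.down
      rw [map_mul, map_mul]
      exact k.eq⟩

end Good

end Cfsg.Lib.M23Rec
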