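import Cfsg.Agent.M23Rec.Orient

/-!
Every conjugate of the involution sees its neighbours as the transpositions of the model commuting with the
distinguished one; only that one commutes with seven letters chosen from the ten and with itself.
-/

set_option autoImplicit false
set_option linter.unusedSectionVars false
set_option linter.style.haveILetI false
set_option maxRecDepth 20000

namespace Cfsg.Lib.M23Rec

open Subgroup Cfsg.Lib.ThreeTr Cfsg.Lib.CosetCert Cfsg.Lib.PermCert

attribute [local irreducible] FiTwenty.sig0 FiTwenty.sig1 FiTwenty.sig2 FiTwenty.sig3 FiTwenty.sig4 FiTwenty.sig5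
  FiTwenty.sig6 FiTwenty.sig7 FiTwenty.sig8 FiTwenty.sig9 FiTwenty.sig10 FiTwenty.subPts FiTwenty.subIdx
  FiTwenty.subTree1Mask FiTwenty.subTree2Mask

/-- The letters of the scan. -/
def scanL : List ℕ := [0, 1, 8, 7, 3, 5, 6, 10]

theorem scan_ok : FiTwenty.allFrom 0 31671 (fun p => (p == 0) || scanL.any fun l =>
    ap (FiTwenty.sigTabs.getD l (0, 0)).1 p != p) = true := by decide +kernel

/-- Only the distinguished member commutes with the seven letters and itself. -/
theorem only_base {x : Fj} (hx : x ∈ D0) (h : ∀ l ∈ scanL, Commute (FiTwenty.imZ l) x) : x = zz := by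
  obtain ⟨g, rfl⟩ := isConj_iff.1 hx
  have hp : g • FiTwenty.p0 = FiTwenty.p0 := by
    by_contra hne
    set p := g • FiTwenty.p0 with hpdef
    have h0 := FiTwenty.allFrom_zero scan_ok p.isLt
    simp only [Bool.or_eq_true, beq_iff_eq, List.any_eq_true, bne_iff_ne] at h0
    rcases h0 with e | ⟨l, hl, e⟩
    · exact hne (Fin.ext e)
    · have hl11 : l < FiTwenty.sigTabs.length := (show ∀ l ∈ scanL, l < FiTwenty.sigTabs.length by decide) l hl
      apply e
      rw [← show ((FiTwenty.imZ l • p : Fin 31671) : ℕ) = ap (FiTwenty.sigTabs.getD l (0, 0)).1 p by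
        rw [FiTwenty.smul_eq, (FiTwenty.psi_act l hl11).2, perm_apply (FiTwenty.psi_act l hl11).1]]
      have hc : g⁻¹ * FiTwenty.imZ l * g ∈ MulAction.stabilizer Fj FiTwenty.p0 := by
        rw [FiTwenty.stab_eq]
        refine mem_H.2 ?_
        have := (h l hl).map (MulAut.conj g⁻¹)
        simp only [MulAut.conj_apply, inv_inv] at this
        rwa [show g⁻¹ * (g * FiTwenty.imZ 10 * g⁻¹) * g = FiTwenty.imZ 10 by group] at this
      rw [MulAction.mem_stabilizer_iff, mul_smul, mul_smul, inv_smul_eq_iff] at hc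
      rw [hc]
  have : Commute g zz := by
    refine mem_H.1 ?_
    rw [show H23 = lgp FiTwenty.imZ FiTwenty.lamH from rfl, ← FiTwenty.stab_eq]
    exact hp
  show g * zz * g⁻¹ = zz
  rw [this.eq, mul_inv_cancel_right]

universe u

variable {G : Type u} [Group G]

namespace Good

variable {d : G} {ι : H23 →* G} (h : Good d ι)
include h

theorem sq : d * d = 1 := by
  rw [← h.1.base, ← map_mul, show FiTwenty.zH * FiTwenty.zH = 1 from Subtype.ext FiTwenty.z_sq, map_one]

/-- The neighbours. -/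
theorem mem_perp {y : G} : y ∈ perp (conjugatesOf d) d ↔ ∃ x : H23, (x : Fj) ∈ P0 ∧ ι x = y := by
  constructor
  · rintro ⟨hy, hyd, hc⟩
    obtain ⟨x, rfl⟩ := h.1.onto y hc.symm
    exact ⟨x, (h.2 x).1 ⟨fun e => hyd (by rw [e, h.1.base]), hy⟩, rfl⟩
  · rintro ⟨x, hx, rfl⟩
    obtain ⟨hne, hc⟩ := (h.2 x).2 hx
    exact ⟨hc, fun e => hne (h.1.inj (e.trans h.1.base.symm)), (h.1.commute_base x).symm⟩

theorem perp_of {x : H23} (hx : (x : Fj) ∈ P0) : ι x ∈ perp (conjugatesOf d) d := h.mem_perp.2 ⟨x, hx, rfl⟩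

theorem card_perp : (perp (conjugatesOf d) d).ncard = 3510 := by
  have e : perp (conjugatesOf d) d = ι '' {x : H23 | (x : Fj) ∈ P0} := Set.ext fun y => by
    simp only [h.mem_perp, Set.mem_image, Set.mem_setOf_eq]
  rw [e, Set.ncard_image_of_injective _ h.1.inj, ← Set.ncard_image_of_injective _ (Subgroup.subtype_injective H23),
    ← card_P0]
  congr 1
  exact Set.ext fun y => ⟨by rintro ⟨x, hx, rfl⟩; exact hx, fun hy => ⟨⟨y, P0_le hy⟩, hy, rfl⟩⟩

/-- Noncommuting neighbours have a product of order three. -/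
theorem cube {x y : G} (hx : x ∈ perp (conjugatesOf d) d) (hy : y ∈ perp (conjugatesOf d) d) (hc : ¬ Commute x y) :
    (x * y) ^ 3 = 1 := by
  obtain ⟨a, ha, rfl⟩ := h.mem_perp.1 hx
  obtain ⟨b, hb, rfl⟩ := h.mem_perp.1 hy
  rw [← map_mul, ← map_pow, ← map_one ι]
  refine congrArg ι (Subtype.ext ?_)
  rw [SubmonoidClass.coe_pow, coe_mul, OneMemClass.coe_one]
  haveI := finite_fj
  exact cube_of_not_commute h23.cls.1 ha.1 hb.1 fun e => hc ((show Commute a b from Subtype.ext e.eq).map ι)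

/-- The view from a conjugate. -/
theorem move (g : G) : Good (g * d * g⁻¹) ((MulAut.conj g).toMonoidHom.comp ι) := by
  refine ⟨⟨(MulAut.conj g).injective.comp h.1.inj, ?_, fun y hy => ?_⟩, fun x => ?_⟩
  · show g * ι FiTwenty.zH * g⁻¹ = _
    rw [h.1.base]
  · have := hy.map (MulAut.conj g⁻¹)
    simp only [MulAut.conj_apply, inv_inv] at this
    rw [show g⁻¹ * (g * d * g⁻¹) * g = d by group] at this
    obtain ⟨x, hx⟩ := h.1.onto _ this
    exact ⟨x, show g * ι x * g⁻¹ = y by rw [hx]; group⟩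
  · refine Iff.trans (and_congr Iff.rfl ?_) (h.2 x)
    show IsConj (g * d * g⁻¹) (g * ι x * g⁻¹) ↔ IsConj d (ι x)
    exact ⟨fun e => ((isConj_iff.2 ⟨g, rfl⟩).trans e).trans (IsConj.symm (isConj_iff.2 ⟨g, rfl⟩)),
      fun e => ((IsConj.symm (isConj_iff.2 ⟨g, rfl⟩)).trans e).trans (isConj_iff.2 ⟨g, rfl⟩)⟩

/-- The view precomposed with a conjugation. -/
theorem twist (c : H23) : Good d (ι.comp (MulAut.conj c).toMonoidHom) := by
  refine ⟨⟨h.1.inj.comp (MulAut.conj c).injective, ?_, fun y hy => ?_⟩, fun x => ?_⟩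
  · show ι (c * FiTwenty.zH * c⁻¹) = d
    rw [show c * FiTwenty.zH = FiTwenty.zH * c from Subtype.ext (mem_H.1 c.2).eq, mul_inv_cancel_right, h.1.base]
  · obtain ⟨x, rfl⟩ := h.1.onto y hy
    exact ⟨c⁻¹ * x * c, show ι (c * (c⁻¹ * x * c) * c⁻¹) = ι x by congr 1; group⟩
  · show x ≠ _ ∧ IsConj d (ι (c * x * c⁻¹)) ↔ _
    rw [map_mul, map_mul, map_inv]
    refine Iff.trans (and_congr Iff.rfl ?_) (h.2 x)
    exact ⟨fun e => e.trans (IsConj.symm (isConj_iff.2 ⟨ι c, rfl⟩)), fun e => e.trans (isConj_iff.2 ⟨ι c, rfl⟩)⟩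

/-- Each conjugate has a view. -/
theorem view {a : G} (ha : a ∈ conjugatesOf d) : ∃ ψ : H23 →* G, Good a ψ ∧ conjugatesOf a = conjugatesOf d := by
  obtain ⟨g, hg⟩ := isConj_iff.1 (show IsConj d a from ha)
  exact ⟨_, hg ▸ h.move g, (IsConj.conjugatesOf_eq ha).symm⟩

/-- A neighbour can be made the first letter. -/
theorem normalise {y : G} (hy : y ∈ perp (conjugatesOf d) d) :
    ∃ ι' : H23 →* G, Good d ι' ∧ ∃ x : H23, (x : Fj) = FiTwenty.imZ 0 ∧ ι' x = y := by
  obtain ⟨a, ha, rfl⟩ := h.mem_perp.1 hy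
  obtain ⟨c, hc, hmap⟩ := perp_lists (l := [FiTwenty.imZ 0]) (l' := [(a : Fj)])
    ⟨List.nodup_singleton _, fun x hx => by rw [List.mem_singleton.1 hx]; exact letter_P0.1, by simp⟩
    ⟨List.nodup_singleton _, fun x hx => by rw [List.mem_singleton.1 hx]; exact ha.1, by simp⟩
    (fun x hx => by rw [List.mem_singleton.1 hx]; exact letter_P0)
    (fun x hx => by rw [List.mem_singleton.1 hx]; exact ha) rfl (by simp)
  simp only [List.map_cons, List.map_nil, List.cons.injEq, and_true] at hmap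
  exact ⟨_, h.twist ⟨c, hc⟩, ⟨_, P0_le letter_P0⟩, rfl, congrArg ι (Subtype.ext hmap.symm)⟩

end Good

end Cfsg.Lib.M23Rec
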